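import Groth.Agent.FlatBC6.Formula

/-!
# Flat base change for higher direct images
-/

set_option backward.isDefEq.respectTransparency false
set_option backward.isDefEq.respectTransparency.types false
set_option linter.style.haveILetI false
set_option autoImplicit false
set_option maxRecDepth 4000
set_option maxHeartbeats 1000000

universe u

open CategoryTheory CategoryTheory.Limits AlgebraicGeometry TopologicalSpace Opposite
open scoped TensorProduct

namespace Groth.Agent.FlatBC6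

open Groth.Agent.QCoh Groth.Agent.CohPullLib Groth.Agent.ExistEasy

theorem isQCoh_Rpush {X S : Scheme.{u}} (f : X ⟶ S) [HasInjectiveResolutions X.Modules] [QuasiCompact f]
    [QuasiSeparated f] {M : X.Modules} (hM : Coh.IsQCoh M) : ∀ k, Coh.IsQCoh ((Coh.Rpush f k).obj M)
  | 0 => by
    haveI := isIso_rcl_zero M f
    exact (isQCoh_iff_iso (asIso (rcl M f 0))).1 (isQCoh_pushforward f hM)
  | n + 1 => by
    haveI := isIso_desc_rcl M f n
    exact (isQCoh_iff_iso (asIso (cokernel.desc _ (rcl M f (n + 1)) (map_π_rcl M f n)))).1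
      (locRange_rpushModel f hM n).isQCoh

theorem smulAb_map_comm {Z : Scheme.{u}} {F G : Z.Modules} (φ : F ⟶ G) (r : Coh.Γtop Z) (k : ℕ)
    (x : Coh.HH Z F k) :
    Sheaf.H.map ((SheafOfModules.toSheaf Z.ringCatSheaf).map φ) k (Sheaf.H.map (Coh.smulAb F r) k x) =
      Sheaf.H.map (Coh.smulAb G r) k (Sheaf.H.map ((SheafOfModules.toSheaf Z.ringCatSheaf).map φ) k x) := by
  rw [← Sheaf.H.map_comp_apply, ← Sheaf.H.map_comp_apply]
  refine congrArg (fun t => Sheaf.H.map t k x) ?_
  ext O t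
  exact Scheme.Modules.Hom.app_smul φ (Coh.resTop Z O r) t

/-- An isomorphism of modules, as a linear equivalence in cohomology. -/
noncomputable def mapHLin {Z : Scheme.{u}} {C : Type u} [CommRing C] (ρ : C →+* Coh.Γtop Z) {F G : Z.Modules}
    (φ : F ≅ G) (k : ℕ) :
    letI := modHH ρ F k
    letI := modHH ρ G k
    Coh.HH Z F k ≃ₗ[C] Coh.HH Z G k :=
  letI := modHH ρ F k
  letI := modHH ρ G k
  LinearEquiv.ofBijective
    { toFun := Sheaf.H.map ((SheafOfModules.toSheaf Z.ringCatSheaf).map φ.hom) k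
      map_add' := map_add _
      map_smul' := fun c x => smulAb_map_comm φ.hom (ρ c) k x }
    (map_bijective_of_isIso _ k)

variable {X S S' X' : Scheme.{u}} {f : X ⟶ S} {g : S' ⟶ S} {f' : X' ⟶ S'} {g' : X' ⟶ X}
  [HasInjectiveResolutions X.Modules] [HasInjectiveResolutions X'.Modules]
  [PreservesFiniteLimits (Scheme.Modules.pullback g')]

/-- The base change map is bijective on sections over affine pairs. -/
theorem bijective_bcQ_app [QuasiCompact f] [QuasiSeparated f] [Flat g] (h : IsPullback g' f' f g)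
    {M : X.Modules} (hM : Coh.IsQCoh M) (k : ℕ) {V : S.Opens} (hV : IsAffineOpen V) {W : S'.Opens}
    (hW : IsAffineOpen W) (hle : W ≤ g ⁻¹ᵁ V) :
    Function.Bijective ((CohBC.bcQ f g f' g' h.w k M).app W) := by
  letI : Algebra Γ(S, V) Γ(S', W) := (g.appLE V W hle).hom.toAlgebra
  let A := Γ(S, V)
  let C := Γ(S', W)
  haveI : QuasiCompact f' := MorphismProperty.of_isPullback h inferInstance
  haveI : QuasiSeparated f' := MorphismProperty.of_isPullback h inferInstance
  let j := g'.resLE (f ⁻¹ᵁ V) (f' ⁻¹ᵁ W) (sectLE h.w hle)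
  let F₀ := M.restrict (f ⁻¹ᵁ V).ι
  let F₁ := (Scheme.Modules.pullback j).obj F₀
  let M' := (Scheme.Modules.pullback g').obj M
  let R := (Coh.Rpush f k).obj M
  let R' := (Coh.Rpush f' k).obj M'
  have hM' : Coh.IsQCoh M' := isQCoh_pullback g' hM
  letI := modHH (Coh.toGlobal (secπ f hV (le_refl (f ⁻¹ᵁ V)))) F₀ k
  letI := modHH (Coh.toGlobal (secπ f' hW (le_refl (f' ⁻¹ᵁ W)))) F₁ k
  letI := modHH ((Coh.toGlobal (secπ f' hW (le_refl (f' ⁻¹ᵁ W)))).comp (algebraMap A C)) F₁ k
  letI := modHH (Coh.toGlobal (secπ f' hW (le_refl (f' ⁻¹ᵁ W)))) (M'.restrict (f' ⁻¹ᵁ W).ι) k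
  haveI : IsScalarTower A C (Coh.HH (f' ⁻¹ᵁ W).toScheme F₁ k) := .of_algebraMap_smul fun _ _ => rfl
  obtain ⟨l, hl, hlb⟩ := exists_pullOn_flat h hM k hV hW hle
  letI : Module A Γ((Scheme.Modules.pullback g).obj R, W) := Module.compHom _ (g.appLE V W hle).hom
  haveI : IsScalarTower A C Γ((Scheme.Modules.pullback g).obj R, W) :=
    ⟨fun a b c => mul_smul ((g.appLE V W hle).hom a) b c⟩
  obtain ⟨l₀, hl₀, hb₀⟩ := exists_pullSec_baseChange g (isQCoh_Rpush f hM k) hW hV hle
  obtain ⟨eV, heV⟩ := exists_eV f hM hV k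
  obtain ⟨eW, heW⟩ := exists_eV f' hM' hW k
  let eΦ : Coh.HH (f' ⁻¹ᵁ W).toScheme F₁ k ≃ₗ[C] Coh.HHon X' M' (f' ⁻¹ᵁ W) k :=
    mapHLin (Coh.toGlobal (secπ f' hW (le_refl (f' ⁻¹ᵁ W))))
      (CohPull.pullOnIso g' (f ⁻¹ᵁ V) (f' ⁻¹ᵁ W) (sectLE h.w hle) M) k
  let E : C ⊗[A] Γ(R, V) ≃+ Γ(R', W) :=
    (TensorProduct.congr (LinearEquiv.refl A C) eV).toAddEquiv.trans
      (hlb.equiv.toAddEquiv.trans (eΦ.trans eW.symm).toAddEquiv)
  have key : ∀ z, (CohBC.bcQ f g f' g' h.w k M).app W (hb₀.equiv z) = E z := fun z => by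
    induction z using TensorProduct.induction_on with
    | zero => simp only [map_zero]
    | add a b ha hb => simp only [map_add, ha, hb]
    | tmul c m =>
      rw [IsBaseChange.equiv_tmul, hl₀]
      refine (Scheme.Modules.Hom.app_smul (CohBC.bcQ f g f' g' h.w k M) c _).trans ?_
      show _ = (eΦ.trans eW.symm) (hlb.equiv (c ⊗ₜ[A] eV m))
      rw [IsBaseChange.equiv_tmul, hl, map_smul]
      refine congrArg (c • ·) ?_
      rw [LinearEquiv.trans_apply, LinearEquiv.eq_symm_apply]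
      obtain ⟨z, rfl⟩ := (app_rcl_spec f hM hV k).1 m
      rw [heV]
      show _ = CohPull.pullOn g' (f ⁻¹ᵁ V) (f' ⁻¹ᵁ W) (sectLE h.w hle) M k (theta f M V k z)
      rw [pullOn_theta f g f' g' h.w M hle k z, ← heW]
      refine congrArg eW ?_
      refine Eq.trans ?_ (congr(($(rcl_bcQ f g f' g' h.w M k)).app W
        (pullSec g ((Scheme.Modules.pushforward f).obj (godQ M k)) hle z)))
      exact congrArg ((CohBC.bcQ f g f' g' h.w k M).app W) (pullSec_natural g (rcl M f k) hle z).symm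
  refine (Function.Bijective.of_comp_iff _ hb₀.equiv.bijective).1 ?_
  rw [show (CohBC.bcQ f g f' g' h.w k M).app W ∘ hb₀.equiv = E from funext key]
  exact E.bijective

/-- **Flat base change for higher direct images.** -/
theorem isIso_bcQ_flat [QuasiCompact f] [QuasiSeparated f] [Flat g] (h : IsPullback g' f' f g)
    {M : X.Modules} (hM : Coh.IsQCoh M) (k : ℕ) : IsIso (CohBC.bcQ f g f' g' h.w k M) :=
  isIso_of_app_affPair (g := g) _ fun _ _ hV hW hle => bijective_bcQ_app h hM k hV hW hle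

end Groth.Agent.FlatBC6
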