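import Mathlib.Algebra.Homology.QuasiIso
import Mathlib.Algebra.Category.ModuleCat.Abelian
import Mathlib.Algebra.Homology.ShortComplex.ModuleCat

/-!
# Quasi-isomorphisms of complexes of modules on elements
-/

set_option backward.isDefEq.respectTransparency false
set_option backward.isDefEq.respectTransparency.types false
set_option autoImplicit false

universe u v

open CategoryTheory CategoryTheory.Limits

namespace Groth.Agent.FlatBC6

variable {R : Type u} [CommRing R] {ι : Type v} {c : ComplexShape ι} {K L : HomologicalComplex (ModuleCat.{u} R) c}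

theorem exists_cycle (K : HomologicalComplex (ModuleCat.{u} R) c) {j k : ι} (hk : c.next j = k) (x : K.X j)
    (hx : K.d j k x = 0) : ∃ z, K.iCycles j z = x :=
  (ShortComplex.moduleCat_exact_iff _).1
    (ShortComplex.exact_of_f_is_kernel (ShortComplex.mk _ _ (K.iCycles_d j k)) (K.cyclesIsKernel j k hk)) x hx

theorem homologyπ_eq_zero_iff (K : HomologicalComplex (ModuleCat.{u} R) c) {i j : ι} (hi : c.prev j = i)
    (z : K.cycles j) : K.homologyπ j z = 0 ↔ ∃ w, K.d i j w = K.iCycles j z := by
  constructor
  · intro hz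
    obtain ⟨w, hw⟩ := (ShortComplex.moduleCat_exact_iff _).1 (ShortComplex.exact_of_g_is_cokernel
      (ShortComplex.mk _ _ (K.toCycles_comp_homologyπ i j)) (K.homologyIsCokernel i j hi)) z hz
    exact ⟨w, (congr($(K.toCycles_i i j) w)).symm.trans (congrArg (K.iCycles j) hw)⟩
  · rintro ⟨w, hw⟩
    have e : K.toCycles i j w = z :=
      (ModuleCat.mono_iff_injective _).1 inferInstance ((congr($(K.toCycles_i i j) w)).trans hw)
    rw [← e]
    exact congr($(K.toCycles_comp_homologyπ i j) w)

variable (f : K ⟶ L) {i j k : ι}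

/-- Surjectivity on classes. -/
theorem exists_preimage_cycle (hi : c.prev j = i) (hk : c.next j = k) [QuasiIsoAt f j] (y : L.X j)
    (hy : L.d j k y = 0) : ∃ x : K.X j, K.d j k x = 0 ∧ ∃ w, L.d i j w = y - f.f j x := by
  obtain ⟨zy, rfl⟩ := exists_cycle L hk y hy
  have hb : Function.Bijective (HomologicalComplex.homologyMap f j) := ConcreteCategory.bijective_of_isIso _
  obtain ⟨h, hh⟩ := hb.2 (L.homologyπ j zy)
  obtain ⟨zx, rfl⟩ := (ModuleCat.epi_iff_surjective (K.homologyπ j)).1 inferInstance h
  refine ⟨K.iCycles j zx, congr($(K.iCycles_d j k) zx), ?_⟩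
  have h0 : L.homologyπ j (zy - HomologicalComplex.cyclesMap f j zx) = 0 := by
    rw [map_sub, sub_eq_zero]
    exact hh.symm.trans congr($(HomologicalComplex.homologyπ_naturality f j) zx)
  obtain ⟨w, hw⟩ := (homologyπ_eq_zero_iff L hi _).1 h0
  refine ⟨w, hw.trans ((map_sub _ _ _).trans ?_)⟩
  exact congrArg (L.iCycles j zy - ·) congr($(HomologicalComplex.cyclesMap_i f j) zx)

/-- Injectivity on classes. -/
theorem exists_of_map_boundary (hi : c.prev j = i) (hk : c.next j = k) [QuasiIsoAt f j] (x : K.X j)
    (hx : K.d j k x = 0) (w : L.X i) (hw : L.d i j w = f.f j x) : ∃ v, K.d i j v = x := by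
  obtain ⟨z, rfl⟩ := exists_cycle K hk x hx
  have hb : Function.Bijective (HomologicalComplex.homologyMap f j) := ConcreteCategory.bijective_of_isIso _
  have h0 : L.homologyπ j (HomologicalComplex.cyclesMap f j z) = 0 :=
    (homologyπ_eq_zero_iff L hi _).2 ⟨w, hw.trans congr($(HomologicalComplex.cyclesMap_i f j) z).symm⟩
  have h1 : K.homologyπ j z = 0 := hb.1 ((congr($(HomologicalComplex.homologyπ_naturality f j) z)).trans
    (h0.trans (map_zero _).symm))
  exact (homologyπ_eq_zero_iff K hi z).1 h1

end Groth.Agent.FlatBC6
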