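import Groth.Agent.FlatBC6.Class
import Groth.Agent.FlatBC6.Homology
import Groth.Agent.QCoh.FlatBC

/-!
# Pullback of classes along a flat affine base change is a base change
-/

set_option backward.isDefEq.respectTransparency false
set_option backward.isDefEq.respectTransparency.types false
set_option linter.style.haveILetI false
set_option autoImplicit false
set_option maxHeartbeats 1000000

universe u

open CategoryTheory CategoryTheory.Limits AlgebraicGeometry TopologicalSpace Opposite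
open scoped TensorProduct

namespace Groth.Agent.FlatBC6

open Groth.Agent.QCoh Groth.Agent.CohPullLib

variable {X X' : Scheme.{u}} (φ : X' ⟶ X) {A B : Type u} [CommRing A] [CommRing B] [Algebra A B]
  (ρ : A →+* Coh.Γtop X) (ρ' : B →+* Coh.Γtop X') (hρ : ∀ a, ρ' (algebraMap A B a) = φ.appTop (ρ a))
  {M : X.Modules} {M' : X'.Modules} (η : M ⟶ (Scheme.Modules.pushforward φ).obj M')

include hρ in
theorem pab_smul (n : ℕ) (a : A) (x : Coh.HH X M n) :
    letI := modHH ρ M n
    letI := modHH ρ' M' n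
    pab φ.base (etaAb φ η) n (a • x) = algebraMap A B a • pab φ.base (etaAb φ η) n x := by
  show pab φ.base (etaAb φ η) n (Sheaf.H.map (Coh.smulAb M (ρ a)) n x) =
    Sheaf.H.map (Coh.smulAb M' (ρ' (algebraMap A B a))) n (pab φ.base (etaAb φ η) n x)
  rw [pab_map, pab_congr_map, hρ]
  refine congrArg (fun t => pab φ.base t n x) ?_
  ext V s
  refine (Scheme.Modules.Hom.app_smul η (show Γ(X, V.unop) from Coh.resTop X V (ρ a))
    (show Γ(M, V.unop) from s)).trans ?_
  exact congrArg (fun c : Γ(X', φ ⁻¹ᵁ V.unop) => c • (show Γ(M', φ ⁻¹ᵁ V.unop) from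
    η.app V.unop (show Γ(M, V.unop) from s))) (QCoh.app_topRes φ V.unop (ρ a))

/-- The linear map on classes. -/
noncomputable def pabLin (n : ℕ) :
    letI := modHH ρ M n
    letI := modHH (ρ'.comp (algebraMap A B)) M' n
    Coh.HH X M n →ₗ[A] Coh.HH X' M' n :=
  letI := modHH ρ M n
  letI := modHH (ρ'.comp (algebraMap A B)) M' n
  { toFun := pab φ.base (etaAb φ η) n
    map_add' := map_add _
    map_smul' := fun a x => pab_smul φ ρ ρ' hρ η n a x }

variable [Module.Flat A B] [IsAffineHom φ] (hM : Coh.IsQCoh M) (hM' : Coh.IsQCoh M')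
  (hbc : IsAffineBC φ ρ ρ' hρ η)

include hM hM' hbc in
theorem quasiIso_godPsi_top [CompactSpace X] [QuasiSeparatedSpace X] :
    QuasiIso (godPsi ρ M φ η ρ' hρ ⊤) := by
  obtain ⟨s, hs, hcov⟩ := isCompact_iff_finite_and_eq_biUnion_affineOpens.mp
    (show IsCompact ((⊤ : X.Opens) : Set X) from isCompact_univ)
  let U : Fin hs.toFinset.card → X.Opens := fun i => (hs.toFinset.equivFin.symm i).1.1
  have hU : (⨆ i, U i) = ⊤ := by
    rw [hcov]
    refine le_antisymm (iSup_le fun i => ?_) (iSup₂_le fun W hW => ?_)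
    · exact le_iSup₂ (f := fun (W : X.affineOpens) (_ : W ∈ s) => W.1) _
        (hs.mem_toFinset.1 (hs.toFinset.equivFin.symm i).2)
    · refine le_trans ?_ (le_iSup U (hs.toFinset.equivFin ⟨W, hs.mem_toFinset.2 hW⟩))
      simp [U]
  rw [← hU]
  exact quasiIso_godPsi_qc φ ρ ρ' hρ η hM hM' hbc _ U fun i => (hs.toFinset.equivFin.symm i).1.2

include hM hM' hbc in
/-- **Flat base change on classes.** -/
theorem isBaseChange_pab [CompactSpace X] [QuasiSeparatedSpace X] (n : ℕ) :
    letI := modHH ρ M n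
    letI := modHH ρ' M' n
    letI := modHH (ρ'.comp (algebraMap A B)) M' n
    haveI : IsScalarTower A B (Coh.HH X' M' n) := .of_algebraMap_smul fun _ _ => rfl
    IsBaseChange B (pabLin φ ρ ρ' hρ η n) := by
  letI := modHH ρ M n
  letI := modHH ρ' M' n
  letI := modHH (ρ'.comp (algebraMap A B)) M' n
  haveI : IsScalarTower A B (Coh.HH X' M' n) := .of_algebraMap_smul fun _ _ => rfl
  haveI := quasiIso_godPsi_top φ ρ ρ' hρ η hM hM' hbc
  let K := godCx ρ ⊤ M
  let K' := godCx ρ' (φ ⁻¹ᵁ ⊤) M'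
  let Ψ := godPsi ρ M φ η ρ' hρ ⊤
  letI := secModule ρ (godQ M n) ⊤
  letI : Module B Γ(godQ M' n, ⊤) := secModule ρ' (godQ M' n) (φ ⁻¹ᵁ ⊤)
  letI : Module A Γ(godQ M' n, ⊤) := secModule (ρ'.comp (algebraMap A B)) (godQ M' n) (φ ⁻¹ᵁ ⊤)
  haveI : IsScalarTower A B Γ(godQ M' n, ⊤) := .of_algebraMap_smul fun _ _ => rfl
  let c : Γ(godQ M n, ⊤) →ₗ[A] (K.X n : ModuleCat.{u} A) := appHom ρ (toGod (godQ M n)) ⊤
  let c' : Γ(godQ M' n, ⊤) →ₗ[B] (K'.X n : ModuleCat.{u} B) := appHom ρ' (toGod (godQ M' n)) (φ ⁻¹ᵁ ⊤)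
  let a : Γ(godQ M n, ⊤) →ₗ[A] Coh.HH X M n :=
    { toFun := cls M n, map_add' := map_add _, map_smul' := fun r v => cls_smul ρ M n r v }
  let a' : Γ(godQ M' n, ⊤) →ₗ[B] Coh.HH X' M' n :=
    { toFun := cls M' n, map_add' := map_add _, map_smul' := fun r v => cls_smul ρ' M' n r v }
  let q : Γ(godQ M n, ⊤) →ₗ[A] Γ(godQ M' n, ⊤) :=
    { toFun := fun v => secMap φ (godQMap φ η n) (le_rfl : φ ⁻¹ᵁ (⊤ : X.Opens) ≤ _) v
      map_add' := secMap_add φ _ _
      map_smul' := fun r v => secMap_smul ρ ρ' φ _ _ r v hρ }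
  have hc : Function.Injective c := toGod_app_injective (godQ M n) ⊤
  have hc' : Function.Injective c' := toGod_app_injective (godQ M' n) (φ ⁻¹ᵁ ⊤)
  have hcd : Function.Exact c (K.d n (n + 1)).hom := fun y => by
    constructor
    · intro hy
      replace hy := (godCx_d_apply ρ ⊤ M n y).symm.trans hy
      exact exists_of_godπ_app_eq_zero n y ((toGod_app_injective (godQ M (n + 1)) ⊤) (hy.trans (map_zero _).symm))
    · rintro ⟨v, rfl⟩
      exact (godCx_d_apply ρ ⊤ M n _).trans ((congrArg ((toGod (godQ M (n + 1))).app ⊤)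
        (godπ_toGod_app M n v)).trans (map_zero _))
  have hqc : ∀ (v : Γ(godQ M n, ⊤)),
      (show Γ(God (godQ M' n), φ ⁻¹ᵁ ⊤) from (godCxMap φ η ρ ρ' hρ (le_rfl : φ ⁻¹ᵁ (⊤ : X.Opens) ≤ _)).f n (c v)) =
        c' (q v) := fun v => by
    show secMap φ (godMap φ (godQMap φ η n)) (le_refl (φ ⁻¹ᵁ (⊤ : X.Opens))) ((toGod (godQ M n)).app ⊤ v) = (toGod (godQ M' n)).app (φ ⁻¹ᵁ ⊤) (secMap φ (godQMap φ η n) (le_refl (φ ⁻¹ᵁ (⊤ : X.Opens))) v)
    unfold secMap
    rw [map_app_comm]
    exact congrArg _ (congrArg (fun f => f.app ⊤ v) (toGod_godMap φ (godQMap φ η n)))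
  have hΨ : ∀ w : B ⊗[A] Γ(godQ M n, ⊤),
      (Ψ.f n).hom (c.baseChange B w) = c' (q.liftBaseChange B w) := fun w => by
    induction w using TensorProduct.induction_on with
    | zero => simp only [map_zero]
    | add x y hx hy => simp only [map_add, hx, hy]
    | tmul b v =>
      rw [LinearMap.liftBaseChange_tmul, map_smul, ← hqc]
      exact adjunct_tmul _ b (c v)
  have ha' : ∀ w : B ⊗[A] Γ(godQ M n, ⊤),
      (pabLin φ ρ ρ' hρ η n).liftBaseChange B (a.baseChange B w) = a' (q.liftBaseChange B w) := fun w => by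
    induction w using TensorProduct.induction_on with
    | zero => simp only [map_zero]
    | add x y hx hy => simp only [map_add, hx, hy]
    | tmul b v =>
      rw [LinearMap.baseChange_tmul, LinearMap.liftBaseChange_tmul, LinearMap.liftBaseChange_tmul, map_smul]
      refine congrArg (b • ·) ((pab_cls φ η n v).trans (congrArg (cls M' n) ?_))
      exact (map_id' (homOfLE (le_refl (φ ⁻¹ᵁ ⊤))) _).symm
  have hexB : Function.Exact (c.baseChange B) ((K.d n (n + 1)).hom.baseChange B) :=
    Module.Flat.lTensor_exact B hcd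
  have hcB : Function.Injective (c.baseChange B) :=
    Module.Flat.lTensor_preserves_injective_linearMap (M := B) c hc
  have haS : Function.Surjective (a.baseChange B) := LinearMap.lTensor_surjective B (cls_surjective M n)
  have hbd : ∀ v, a' v = 0 ↔ ∃ t, (K'.d ((ComplexShape.up ℕ).prev n) n).hom t = c' v := fun v => by
    rw [show a' v = cls M' n v from rfl, cls_eq_zero_iff]
    cases n with
    | zero =>
      constructor
      · intro hv
        exact ⟨0, by rw [map_zero, show v = 0 from (Submodule.mem_bot _).1 hv, map_zero]⟩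
      · rintro ⟨t, ht⟩
        rw [K'.shape _ _ (by simp)] at ht
        exact (Submodule.mem_bot _).2 (hc' (ht.symm.trans (map_zero c').symm))
    | succ m =>
      rw [CochainComplex.prev_nat_succ]
      constructor
      · rintro ⟨t, ht⟩
        exact ⟨t, (godCx_d_apply ρ' _ M' m t).trans (congrArg ((toGod (godQ M' (m + 1))).app _) ht)⟩
      · rintro ⟨t, ht⟩
        exact ⟨t, hc' ((godCx_d_apply ρ' _ M' m t).symm.trans ht)⟩
  refine IsBaseChange.of_equiv (LinearEquiv.ofBijective ((pabLin φ ρ ρ' hρ η n).liftBaseChange B) ⟨?_, ?_⟩)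
    fun x => by rw [LinearEquiv.ofBijective_apply, LinearMap.liftBaseChange_tmul, one_smul]
  · refine (injective_iff_map_eq_zero _).2 fun y hy => ?_
    obtain ⟨w, rfl⟩ := haS y
    rw [ha', hbd] at hy
    obtain ⟨t, ht⟩ := hy
    obtain ⟨x, hx⟩ := exists_of_map_boundary Ψ rfl (CochainComplex.next ℕ n) (c.baseChange B w)
      (hexB.apply_apply_eq_zero w) t (ht.trans (hΨ w).symm)
    cases n with
    | zero =>
      rw [HomologicalComplex.shape _ _ _ (by simp)] at hx
      rw [show w = 0 from hcB (hx.symm.trans (map_zero (c.baseChange B)).symm), map_zero]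
    | succ m =>
      revert x hx
      rw [CochainComplex.prev_nat_succ]
      intro x hx
      let pi : (K.X m : ModuleCat.{u} A) →ₗ[A] Γ(godQ M (m + 1), ⊤) :=
        letI := secModule ρ (God (godQ M m)) ⊤
        appHom ρ (godπ M m) ⊤
      have hd : (K.d m (m + 1)).hom = c ∘ₗ pi := LinearMap.ext fun t => godCx_d_apply ρ ⊤ M m t
      have h0 : a ∘ₗ pi = 0 := LinearMap.ext fun t => (cls_eq_zero_iff M (m + 1) _).2 ⟨t, rfl⟩
      have hw : w = pi.baseChange B x := hcB (by
        rw [← hx]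
        show (K.d m (m + 1)).hom.baseChange B x = _
        rw [hd, LinearMap.baseChange_comp]
        rfl)
      rw [hw, ← LinearMap.comp_apply, ← LinearMap.baseChange_comp, h0, LinearMap.baseChange_zero]
      rfl
  · intro y
    obtain ⟨v, rfl⟩ := cls_surjective M' n y
    obtain ⟨x, hx, t, ht⟩ := exists_preimage_cycle Ψ rfl (CochainComplex.next ℕ n) (c' v)
      ((godCx_d_apply ρ' _ M' n _).trans ((congrArg ((toGod (godQ M' (n + 1))).app _)
        (godπ_toGod_app M' n v)).trans (map_zero _)))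
    obtain ⟨w, rfl⟩ := (hexB x).1 hx
    refine ⟨a.baseChange B w, ?_⟩
    rw [ha']
    refine (sub_eq_zero.1 ?_).symm
    show a' v - a' (q.liftBaseChange B w) = 0
    rw [← map_sub, hbd]
    exact ⟨t, ht.trans (by rw [map_sub, hΨ])⟩

end Groth.Agent.FlatBC6
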