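import Groth.Agent.QCoh.RpushCoh
import Groth.Agent.CohPullLib.PullOnPab

/-!
# Cohomology classes of sections of the Godement cokernels
-/

set_option backward.isDefEq.respectTransparency false
set_option backward.isDefEq.respectTransparency.types false
set_option linter.style.haveILetI false
set_option autoImplicit false

universe u

open CategoryTheory CategoryTheory.Limits AlgebraicGeometry TopologicalSpace Opposite

namespace Groth.Agent.FlatBC6

open Groth.Agent.QCoh Groth.Agent.CohPullLib

variable {X : Scheme.{u}}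

/-- The iterated connecting maps of the Godement sequences. -/
noncomputable def conn (M : X.Modules) : ∀ (k m n : ℕ), m + k = n →
    (Coh.HH X (godQ M k) m →+ Coh.HH X M n)
  | 0, m, n, h => cast (by obtain rfl : m = n := h; rfl) (AddMonoidHom.id (Coh.HH X M m))
  | k + 1, m, n, h => (conn M k (m + 1) n (by omega)).comp
      (Ab.connecting (X := X.toPresheafedSpace.carrier) (toAb_shortExact (godSES_shortExact M k)) m)

theorem conn_zero (M : X.Modules) (m : ℕ) (x : Coh.HH X M m) : conn M 0 m m rfl x = x := rfl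

theorem conn_succ (M : X.Modules) (k m n : ℕ) (h : m + (k + 1) = n) (x : Coh.HH X (godQ M (k + 1)) m) :
    conn M (k + 1) m n h x = conn M k (m + 1) n (by omega)
      (Ab.connecting (X := X.toPresheafedSpace.carrier) (toAb_shortExact (godSES_shortExact M k)) m x) := rfl

theorem conn_bijective (M : X.Modules) : ∀ (k m n : ℕ) (h : m + 1 + k = n),
    Function.Bijective (conn M k (m + 1) n h)
  | 0, m, n, h => by
    obtain rfl : m + 1 = n := h
    exact Function.bijective_id
  | k + 1, m, n, h => (conn_bijective M k (m + 1) n (by omega)).comp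
      (Ab.connecting_bijective (X := X.toPresheafedSpace.carrier) (toAb_shortExact (godSES_shortExact M k)) (m + 1)
        (subsingleton_HH_God (godQ M k) m) (subsingleton_HH_God (godQ M k) (m + 1)))

/-- The class of a section of a Godement cokernel. -/
noncomputable def cls (M : X.Modules) (k : ℕ) : Γ(godQ M k, ⊤) →+ Coh.HH X M k :=
  (conn M k 0 k (Nat.zero_add k)).comp
    (Sheaf.H.equiv₀ (Coh.toAb (godQ M k)) (isTerminalTop : IsTerminal (⊤ : X.Opens))).symm.toAddMonoidHom

theorem cls_surjective (M : X.Modules) : ∀ k, Function.Surjective (cls M k)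
  | 0 => (Sheaf.H.equiv₀ (Coh.toAb M) isTerminalTop).symm.surjective
  | k + 1 => by
    show Function.Surjective ((conn M k 1 (k + 1) (by omega)) ∘ _ ∘ _)
    exact (conn_bijective M k 0 (k + 1) (by omega)).2.comp ((Ab.connecting_surjective
      (X := X.toPresheafedSpace.carrier) (toAb_shortExact (godSES_shortExact M k)) 0
      (subsingleton_HH_God (godQ M k) 0)).comp
        (Sheaf.H.equiv₀ (Coh.toAb (godQ M (k + 1))) isTerminalTop).symm.surjective)

theorem cls_eq_zero_iff (M : X.Modules) : ∀ (k : ℕ) (v : Γ(godQ M k, ⊤)), cls M k v = 0 ↔ v ∈ bd M k ⊤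
  | 0, v => (Sheaf.H.equiv₀ (Coh.toAb M) isTerminalTop).symm.map_eq_zero_iff.trans
      (Submodule.mem_bot Γ(X, ⊤) (x := (v : Γ(M, ⊤)))).symm
  | n + 1, v => by
    refine ((map_eq_zero_iff _ (conn_bijective M n 0 (n + 1) (by omega)).1)).trans ?_
    refine (Ab.connecting_eq_zero_iff (X := X.toPresheafedSpace.carrier)
      (toAb_shortExact (godSES_shortExact M n)) 0 _).trans ⟨?_, ?_⟩
    · rintro ⟨y, hy⟩
      refine ⟨Sheaf.H.equiv₀ (Coh.toAb (God (godQ M n))) isTerminalTop y, ?_⟩
      refine (Sheaf.H.equiv₀_naturality isTerminalTop ((godSES M n).map (toAbFunctor X)).g y).trans ?_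
      exact (congrArg (Sheaf.H.equiv₀ (Coh.toAb (godQ M (n + 1))) isTerminalTop) hy).trans
        ((Sheaf.H.equiv₀ (Coh.toAb (godQ M (n + 1))) isTerminalTop).apply_symm_apply v)
    · rintro ⟨x, hx⟩
      refine ⟨(Sheaf.H.equiv₀ (Coh.toAb (God (godQ M n))) isTerminalTop).symm x,
        (Sheaf.H.equiv₀ (Coh.toAb (godQ M (n + 1))) isTerminalTop).injective ?_⟩
      refine (Sheaf.H.equiv₀_naturality isTerminalTop ((godSES M n).map (toAbFunctor X)).g _).symm.trans ?_
      refine (congrArg _ ((Sheaf.H.equiv₀ (Coh.toAb (God (godQ M n))) isTerminalTop).apply_symm_apply x)).trans ?_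
      exact hx.trans ((Sheaf.H.equiv₀ (Coh.toAb (godQ M (n + 1))) isTerminalTop).apply_symm_apply v).symm

section Natural

variable {X' : Scheme.{u}} (φ : X' ⟶ X) {M : X.Modules} {M' : X'.Modules}
  (η : M ⟶ (Scheme.Modules.pushforward φ).obj M')

/-- The map of abelian sheaves under a map to a direct image. -/
noncomputable abbrev etaAb : Coh.toAb M ⟶ (CohTop.push φ.base).obj (Coh.toAb M') :=
  (SheafOfModules.toSheaf X.ringCatSheaf).map η

/-- The map of Godement sequences. -/
noncomputable def sesHom (k : ℕ) :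
    (godSES M k).map (toAbFunctor X) ⟶ ((godSES M' k).map (toAbFunctor X')).map (CohTop.push φ.base) where
  τ₁ := etaAb φ (godQMap φ η k)
  τ₂ := etaAb φ (godMap φ (godQMap φ η k))
  τ₃ := etaAb φ (godQMap φ η (k + 1))
  comm₁₂ := ((toAbFunctor X).map_comp _ _).symm.trans (Eq.trans
    (congrArg (toAbFunctor X).map (toGod_godMap φ (godQMap φ η k)).symm) ((toAbFunctor X).map_comp _ _))
  comm₂₃ := ((toAbFunctor X).map_comp _ _).symm.trans (Eq.trans
    (congrArg (toAbFunctor X).map (godπ_godQMap φ η k).symm) ((toAbFunctor X).map_comp _ _))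

theorem pab_conn : ∀ (k m n : ℕ) (h : m + k = n) (x : Coh.HH X (godQ M k) m),
    pab φ.base (etaAb φ η) n (conn M k m n h x) =
      conn M' k m n h (pab φ.base (etaAb φ (godQMap φ η k)) m x)
  | 0, m, n, h, x => by
    obtain rfl : m = n := h
    rfl
  | k + 1, m, n, h, x => by
    rw [conn_succ, conn_succ, pab_conn k (m + 1) n (by omega)]
    exact congrArg (conn M' k (m + 1) n (by omega))
      (pab_delta φ.base (toAb_shortExact (godSES_shortExact M k)) (toAb_shortExact (godSES_shortExact M' k))
        (sesHom φ η k) m x)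

/-- **The classes are natural.** -/
theorem pab_cls (k : ℕ) (v : Γ(godQ M k, ⊤)) :
    pab φ.base (etaAb φ η) k (cls M k v) = cls M' k ((godQMap φ η k).app ⊤ v) := by
  refine (pab_conn φ η k 0 k _ _).trans (congrArg (conn M' k 0 k _) ?_)
  refine (AddEquiv.eq_symm_apply _).2 ((equiv₀_pab φ.base _ _).trans ?_)
  exact congrArg ((godQMap φ η k).app ⊤) ((Sheaf.H.equiv₀ (Coh.toAb (godQ M k)) isTerminalTop).apply_symm_apply v)

end Natural

theorem cls_smul {A : Type u} [CommRing A] (ρ : A →+* Coh.Γtop X) (M : X.Modules) (k : ℕ) (a : A)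
    (v : Γ(godQ M k, ⊤)) :
    letI := secModule ρ (godQ M k) ⊤
    letI := modHH ρ M k
    cls M k (a • v) = a • cls M k v := by
  letI := secModule ρ (godQ M k) ⊤
  letI := modHH ρ M k
  have hconn : ∀ (j m n : ℕ) (h : m + j = n) (x : Coh.HH X (godQ M j) m),
      conn M j m n h (Sheaf.H.map (Coh.smulAb (godQ M j) (ρ a)) m x) =
        Sheaf.H.map (Coh.smulAb M (ρ a)) n (conn M j m n h x) := by
    intro j
    induction j with
    | zero =>
      intro m n h x
      obtain rfl : m = n := h
      rfl
    | succ j ih =>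
      intro m n h x
      rw [conn_succ, conn_succ, ← ih]
      letI := modHH ρ (godSES M j).X₃ m
      letI := modHH ρ (godSES M j).X₁ (m + 1)
      exact congrArg (conn M j (m + 1) n (by omega))
        ((connLin ρ (godSES_shortExact M j) m).map_smul' a x)
  letI := modHH ρ (godQ M k) 0
  show conn M k 0 k _ ((secH ρ (godQ M k)) (a • v)) = _
  rw [map_smul]
  exact hconn k 0 k _ _

end Groth.Agent.FlatBC6
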