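import Groth.Agent.QCoh.GodLoc
import Groth.Agent.QCoh.CokerQC

/-!
# Godement functoriality along a commutative square
-/

set_option backward.isDefEq.respectTransparency false
set_option backward.isDefEq.respectTransparency.types false
set_option linter.style.haveILetI false
set_option autoImplicit false

universe u

open CategoryTheory CategoryTheory.Limits AlgebraicGeometry TopologicalSpace Opposite

namespace Groth.Agent.FlatBC6

open Groth.Agent.QCoh

variable {X Y Y' Z : Scheme.{u}} {a : Z ⟶ Y} {b : Y ⟶ X} {a' : Z ⟶ Y'} {b' : Y' ⟶ X}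
  {M : X.Modules} {P : Y.Modules} {P' : Y'.Modules} {N : Z.Modules}

/-- The two ways around a square agree on sections. -/
def RoutesEq (e : a ≫ b = a' ≫ b') (η : M ⟶ (Scheme.Modules.pushforward b).obj P)
    (θ : P ⟶ (Scheme.Modules.pushforward a).obj N) (η' : M ⟶ (Scheme.Modules.pushforward b').obj P')
    (θ' : P' ⟶ (Scheme.Modules.pushforward a').obj N) : Prop :=
  ∀ (U : X.Opens) (h : a ⁻¹ᵁ (b ⁻¹ᵁ U) ≤ a' ⁻¹ᵁ (b' ⁻¹ᵁ U)) (s : Γ(M, U)),
    (show Γ(N, a ⁻¹ᵁ (b ⁻¹ᵁ U)) from θ.app (b ⁻¹ᵁ U) (η.app U s)) =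
      rs N h (θ'.app (b' ⁻¹ᵁ U) (η'.app U s))

variable {e : a ≫ b = a' ≫ b'} {η : M ⟶ (Scheme.Modules.pushforward b).obj P}
  {θ : P ⟶ (Scheme.Modules.pushforward a).obj N} {η' : M ⟶ (Scheme.Modules.pushforward b').obj P'}
  {θ' : P' ⟶ (Scheme.Modules.pushforward a').obj N}

theorem godVal_congr {U : X.Opens} (s : Γ(God M, U)) {x x' : X} (h : x = x') (hx : x ∈ U) (hx' : x' ∈ U) :
    godVal s x' hx' = h ▸ godVal s x hx := by
  subst h; rfl

theorem germM_congr {U : X.Opens} (s : Γ(M, U)) {x x' : X} (h : x = x') (hx : x ∈ U) (hx' : x' ∈ U) :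
    germM M U hx' s = h ▸ germM M U hx s := by
  subst h; rfl

theorem routes_point (e : a ≫ b = a' ≫ b') (y : Z) : b.base (a.base y) = b'.base (a'.base y) :=
  congrArg (fun t : Z ⟶ X => t.base y) e

theorem routes_le (e : a ≫ b = a' ≫ b') (U : X.Opens) : a ⁻¹ᵁ (b ⁻¹ᵁ U) ≤ a' ⁻¹ᵁ (b' ⁻¹ᵁ U) := fun y hy => by
  show b'.base (a'.base y) ∈ U
  rw [← routes_point e y]
  exact hy

theorem RoutesEq.stkMap (h : RoutesEq e η θ η' θ') (y : Z) (m : stk M (b.base (a.base y))) :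
    stkMap a θ y (stkMap b η (a.base y) m) = stkMap a' θ' y (stkMap b' η' (a'.base y) (routes_point e y ▸ m)) := by
  obtain ⟨U, hU, s, rfl⟩ := exists_germM M m
  have hU' : b'.base (a'.base y) ∈ U := routes_point e y ▸ hU
  rw [← germM_congr s (routes_point e y) hU hU']
  refine ((congrArg (QCoh.stkMap a θ y) (stkMap_germM b η (a.base y) U hU s)).trans
    (stkMap_germM a θ y (b ⁻¹ᵁ U) hU _)).trans (Eq.trans ?_
      ((congrArg (QCoh.stkMap a' θ' y) (stkMap_germM b' η' (a'.base y) U hU' s)).trans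
        (stkMap_germM a' θ' y (b' ⁻¹ᵁ U) hU' _)).symm)
  refine (congrArg (germM N (a ⁻¹ᵁ (b ⁻¹ᵁ U)) hU) (h U (routes_le e U) s)).trans ?_
  exact germM_res N (homOfLE (routes_le e U)) hU _

theorem RoutesEq.godMap (h : RoutesEq e η θ η' θ') :
    RoutesEq e (godMap b η) (godMap a θ) (godMap b' η') (godMap a' θ') := fun U _ s =>
  funext fun y => by
    refine (h.stkMap y.1 (godVal s (b.base (a.base y.1)) y.2)).trans ?_
    rw [← godVal_congr s (routes_point e y.1) y.2 (routes_le e U y.2)]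
    rfl

theorem RoutesEq.godQMap (h : RoutesEq e η θ η' θ') :
    ∀ k, RoutesEq e (godQMap b η k) (godQMap a θ k) (godQMap b' η' k) (godQMap a' θ' k)
  | 0 => h
  | k + 1 => fun U hle z => by
    have ih := (RoutesEq.godQMap h k).godMap
    haveI : Epi (godπ M k) := inferInstanceAs (Epi (cokernel.π _))
    refine sub_eq_zero.1 (eq_zero_of_locally (M := godQ N (k + 1)) _ _ fun y hy => ?_)
    obtain ⟨V, i, hyV, g, hg⟩ := exists_local_preimage (godπ M k) z hy
    refine ⟨a ⁻¹ᵁ (b ⁻¹ᵁ V), homOfLE (a.preimage_mono (b.preimage_mono i)), hyV, ?_⟩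
    show rs (godQ N (k + 1)) (a.preimage_mono (b.preimage_mono i)) (_ - _) = 0
    rw [rs_sub, sub_eq_zero]
    refine Eq.trans ?_ (Eq.trans (congrArg (rs (godQ N (k + 1)) (routes_le e V))
      ((app_rs (QCoh.godQMap a' θ' (k + 1)) (b'.preimage_mono i) (show Γ(godQ P' (k + 1), b' ⁻¹ᵁ U) from (QCoh.godQMap b' η' (k + 1)).app U z)))) ?_)
    · refine (app_rs (QCoh.godQMap a θ (k + 1)) (b.preimage_mono i) _).symm.trans ?_
      refine (congrArg ((QCoh.godQMap a θ (k + 1)).app (b ⁻¹ᵁ V))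
        ((app_rs (QCoh.godQMap b η (k + 1)) i z).symm.trans (congrArg _ hg.symm))).trans ?_
      refine (congrArg ((QCoh.godQMap a θ (k + 1)).app (b ⁻¹ᵁ V))
        (congr(($(godπ_godQMap b η k)).app V g))).trans ?_
      refine (congr(($(godπ_godQMap a θ k)).app (b ⁻¹ᵁ V) ((QCoh.godMap b (QCoh.godQMap b η k)).app V g))).trans ?_
      refine (congrArg ((godπ N k).app (a ⁻¹ᵁ (b ⁻¹ᵁ V))) (ih V (routes_le e V) g)).trans ?_
      refine (app_rs (godπ N k) (routes_le e V) _).trans ?_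
      refine congrArg (rs (godQ N (k + 1)) (routes_le e V)) ?_
      refine (congr(($(godπ_godQMap a' θ' k)).app (b' ⁻¹ᵁ V) ((QCoh.godMap b' (QCoh.godQMap b' η' k)).app V g))).symm.trans ?_
      refine congrArg ((QCoh.godQMap a' θ' (k + 1)).app (b' ⁻¹ᵁ V)) ?_
      refine (congr(($(godπ_godQMap b' η' k)).app V g)).symm.trans ?_
      exact (congrArg _ hg).trans (app_rs (QCoh.godQMap b' η' (k + 1)) i z)
    · exact (rs_rs _ _ _).trans (rs_rs _ _ _).symm

end Groth.Agent.FlatBC6
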