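import Mathlib.Algebra.Homology.DerivedCategory.Ext.ExtClass
import Mathlib.Algebra.Homology.DerivedCategory.Ext.ExactSequences

/-!
# Comparing two short exact sequences with acyclic middle terms
-/

set_option autoImplicit false

universe w v u

open CategoryTheory CategoryTheory.Limits CategoryTheory.Abelian

namespace Groth.Agent.FlatBC6

variable {C : Type u} [Category.{v} C] [Abelian C] [HasExt.{w} C] (P : C)
  {S S' : ShortComplex C} (hS : S.ShortExact) (hS' : S'.ShortExact) (φ : S ⟶ S')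

include hS hS'

theorem extClass_comp_naturality (n : ℕ) (x : Ext P S.X₃ n) :
    (x.comp hS.extClass (rfl : n + 1 = n + 1)).comp (Ext.mk₀ φ.τ₁) (add_zero _) =
      (x.comp (Ext.mk₀ φ.τ₃) (add_zero n)).comp hS'.extClass rfl := by
  rw [Ext.comp_assoc_of_third_deg_zero, ShortComplex.ShortExact.extClass_naturality hS hS' φ,
    Ext.comp_assoc_of_second_deg_zero]

omit hS hS' in
theorem extClass_kills {T : ShortComplex C} (hT : T.ShortExact) (n : ℕ) (y : Ext P T.X₂ n) :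
    (y.comp (Ext.mk₀ T.g) (add_zero n)).comp hT.extClass (rfl : n + 1 = n + 1) = 0 := by
  rw [Ext.comp_assoc_of_second_deg_zero, hT.comp_extClass, Ext.comp_zero]

/-- Dimension shifting for comparison maps. -/
theorem bijective_τ₃ (n : ℕ) (h₁ : Subsingleton (Ext P S.X₂ (n + 1))) (h₂ : Subsingleton (Ext P S.X₂ (n + 1 + 1)))
    (h₁' : Subsingleton (Ext P S'.X₂ (n + 1)))
    (h : Function.Bijective fun x : Ext P S.X₁ (n + 1 + 1) => x.comp (Ext.mk₀ φ.τ₁) (add_zero _)) :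
    Function.Bijective fun x : Ext P S.X₃ (n + 1) => x.comp (Ext.mk₀ φ.τ₃) (add_zero _) := by
  constructor
  · intro x y hxy
    have h3 : x.comp hS.extClass rfl = y.comp hS.extClass (rfl : n + 1 + 1 = n + 1 + 1) := h.1 (by
      simp only [extClass_comp_naturality P hS hS' φ]
      exact congrArg (fun t => Ext.comp t hS'.extClass rfl) hxy)
    obtain ⟨z, hz⟩ := Ext.covariant_sequence_exact₃ P hS (x - y) (n₁ := n + 1 + 1) rfl (by
      rw [sub_eq_add_neg, Ext.add_comp, Ext.neg_comp, ← sub_eq_add_neg, h3, sub_self])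
    rw [h₁.elim z 0, Ext.zero_comp] at hz
    exact sub_eq_zero.1 hz.symm
  · intro y
    obtain ⟨w, hw⟩ := h.2 (y.comp hS'.extClass rfl)
    obtain ⟨x, rfl⟩ := Ext.covariant_sequence_exact₁ P hS w (h₂.elim _ _) (n₀ := n + 1) rfl
    refine ⟨x, ?_⟩
    obtain ⟨z, hz⟩ := Ext.covariant_sequence_exact₃ P hS' (x.comp (Ext.mk₀ φ.τ₃) (add_zero _) - y)
      (n₁ := n + 1 + 1) rfl (by
        rw [sub_eq_add_neg, Ext.add_comp, Ext.neg_comp, ← sub_eq_add_neg, ← extClass_comp_naturality P hS hS' φ, ← hw, sub_self])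
    rw [h₁'.elim z 0, Ext.zero_comp] at hz
    exact sub_eq_zero.1 hz.symm

variable (h₁ : Function.Bijective fun x : Ext P S.X₁ 1 => x.comp (Ext.mk₀ φ.τ₁) (add_zero _))

include h₁

/-- Every morphism into the cokernel lifts up to the comparison. -/
theorem exists_decomp (h₂ : Subsingleton (Ext P S.X₂ 1)) (z : P ⟶ S'.X₃) :
    ∃ (q : P ⟶ S.X₃) (i : P ⟶ S'.X₂), z = q ≫ φ.τ₃ + i ≫ S'.g := by
  obtain ⟨w, hw⟩ := h₁.2 ((Ext.mk₀ z).comp hS'.extClass rfl)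
  obtain ⟨x, rfl⟩ := Ext.covariant_sequence_exact₁ P hS w (h₂.elim _ _) (n₀ := 0) rfl
  obtain ⟨q, rfl⟩ := (Ext.mk₀_bijective P S.X₃).2 x
  obtain ⟨y, hy⟩ := Ext.covariant_sequence_exact₃ P hS' (Ext.mk₀ z - (Ext.mk₀ q).comp (Ext.mk₀ φ.τ₃) (add_zero _))
    (n₁ := 1) rfl (by rw [sub_eq_add_neg, Ext.add_comp, Ext.neg_comp, ← sub_eq_add_neg, ← extClass_comp_naturality P hS hS' φ, ← hw, sub_self])
  obtain ⟨i, rfl⟩ := (Ext.mk₀_bijective P S'.X₂).2 y
  refine ⟨q, i, (Ext.mk₀_bijective P S'.X₃).1 ?_⟩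
  rw [Ext.mk₀_add, ← Ext.mk₀_comp_mk₀, ← Ext.mk₀_comp_mk₀, hy, add_sub_cancel]

/-- A morphism killed by the comparison lifts. -/
theorem exists_lift_of_eq (q : P ⟶ S.X₃) (i : P ⟶ S'.X₂) (e : q ≫ φ.τ₃ = i ≫ S'.g) :
    ∃ w : P ⟶ S.X₂, q = w ≫ S.g := by
  have h0 : (Ext.mk₀ q).comp hS.extClass rfl = (0 : Ext P S.X₁ 1) := h₁.1 (by
    show ((Ext.mk₀ q).comp hS.extClass rfl).comp (Ext.mk₀ φ.τ₁) (add_zero _) = (0 : Ext P S.X₁ 1).comp _ _
    rw [extClass_comp_naturality P hS hS' φ, Ext.zero_comp, Ext.mk₀_comp_mk₀, e, ← Ext.mk₀_comp_mk₀]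
    exact extClass_kills P hS' 0 _)
  obtain ⟨y, hy⟩ := Ext.covariant_sequence_exact₃ P hS (Ext.mk₀ q) (n₁ := 1) rfl h0
  obtain ⟨w, rfl⟩ := (Ext.mk₀_bijective P S.X₂).2 y
  exact ⟨w, (Ext.mk₀_bijective P S.X₃).1 (by rw [← Ext.mk₀_comp_mk₀, hy])⟩

end Groth.Agent.FlatBC6
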