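import Groth.Agent.FlatBC6.Lift
import Groth.Agent.FlatBC6.Step
import Groth.Agent.SiteBase.Cohom
import Groth.Agent.QCoh.Sections

/-!
# Higher direct images as cokernels of the Godement differentials
-/

set_option backward.isDefEq.respectTransparency false
set_option backward.isDefEq.respectTransparency.types false
set_option linter.style.haveILetI false
set_option autoImplicit false
set_option maxHeartbeats 1000000

universe u

open CategoryTheory CategoryTheory.Limits CategoryTheory.Abelian AlgebraicGeometry TopologicalSpace Opposite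

namespace Groth.Agent.FlatBC6

open Groth.Agent.QCoh

variable {X : Scheme.{u}}

/-- The sequence of cycles. -/
noncomputable abbrev cycSC (L : CochainComplex X.Modules ℕ) (k : ℕ) : ShortComplex X.Modules :=
  ShortComplex.mk (L.iCycles k) (L.toCycles k (k + 1)) (by
    rw [← cancel_mono (L.iCycles (k + 1)), Category.assoc, HomologicalComplex.toCycles_i, zero_comp,
      HomologicalComplex.iCycles_d])

theorem cycSC_shortExact (L : CochainComplex X.Modules ℕ) (hex : ∀ k, L.ExactAt (k + 1)) (k : ℕ) :
    (cycSC L k).ShortExact := by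
  haveI : Mono (cycSC L k).f := inferInstanceAs (Mono (L.iCycles k))
  haveI : Epi (cycSC L k).g := by
    refine Preadditive.epi_of_cancel_zero _ fun g hg => ?_
    have hc := L.homologyIsCokernel k (k + 1) (CochainComplex.prev_nat_succ k)
    have hz : IsZero (L.homology (k + 1)) := (hex k).isZero_homology
    obtain ⟨l, hl⟩ := CokernelCofork.IsColimit.desc' hc g hg
    rw [← hl, hz.eq_of_src l 0, comp_zero]
  refine ⟨ShortComplex.exact_of_f_is_kernel _ ?_⟩
  refine KernelFork.IsLimit.ofι' _ _ fun {A} g hg => ⟨L.liftCycles g (k + 1) (CochainComplex.next ℕ k) ?_,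
    HomologicalComplex.liftCycles_i _ _ _ _ _⟩
  rw [← L.toCycles_i k (k + 1), ← Category.assoc, hg, zero_comp]

variable {M : X.Modules} {L : CochainComplex X.Modules ℕ}

/-- The map to the cycles. -/
noncomputable def GodLift.toCyc (T : GodLift M L) (k : ℕ) : godQ M k ⟶ L.cycles k :=
  L.liftCycles (T.τ k) (k + 1) (CochainComplex.next ℕ k) (T.τ_d k)

theorem GodLift.toCyc_i (T : GodLift M L) (k : ℕ) : T.toCyc k ≫ L.iCycles k = T.τ k :=
  HomologicalComplex.liftCycles_i _ _ _ _ _

/-- The comparison of the short exact sequences. -/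
noncomputable def GodLift.scHom (T : GodLift M L) (k : ℕ) :
    (godSES M k).map (toAbFunctor X) ⟶ (cycSC L k).map (toAbFunctor X) :=
  (toAbFunctor X).mapShortComplex.map
    ({ τ₁ := T.toCyc k, τ₂ := T.α k, τ₃ := T.toCyc (k + 1),
       comm₁₂ := (T.toCyc_i k).trans (T.toGod_α k).symm
       comm₂₃ := by
        show T.α k ≫ L.toCycles k (k + 1) = godπ M k ≫ T.toCyc (k + 1)
        rw [← cancel_mono (L.iCycles (k + 1)), Category.assoc, Category.assoc, HomologicalComplex.toCycles_i,
          T.toCyc_i, T.π_τ] } : godSES M k ⟶ cycSC L k)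

variable (hL : ∀ n, Injective (L.X n)) (hex : ∀ k, L.ExactAt (k + 1)) (T : GodLift M L) (h0 : IsIso (T.toCyc 0))

include hL in
theorem subsingleton_ext_injective (U : X.Opens) (k n : ℕ) :
    Subsingleton (Ext (CohCx.freeSheaf (Opens.grothendieckTopology X) U)
      ((toAbFunctor X).obj (L.X k)) (n + 1)) :=
  haveI := hL k
  haveI := isFlasqueMod_of_injective (L.X k)
  SiteBase.subsingleton_HU_of_isFlasque (X := X.toPresheafedSpace.carrier)
    (abSheaf (L.X k)) U n

include hL hex h0 in
theorem bijective_toCyc_comp (U : X.Opens) : ∀ (k n : ℕ), Function.Bijective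
    fun x : Ext (CohCx.freeSheaf (Opens.grothendieckTopology X) U) ((toAbFunctor X).obj (godQ M k)) (n + 1) =>
      x.comp (Ext.mk₀ ((toAbFunctor X).map (T.toCyc k))) (add_zero _) := by
  intro k
  induction k with
  | zero =>
    intro n
    refine Function.bijective_iff_has_inverse.2 ⟨fun y => y.comp (Ext.mk₀ (inv ((toAbFunctor X).map (T.toCyc 0))))
      (add_zero _), fun x => ?_, fun y => ?_⟩
    · show (x.comp _ _).comp _ _ = x
      rw [Ext.comp_assoc_of_third_deg_zero, Ext.mk₀_comp_mk₀, IsIso.hom_inv_id, Ext.comp_mk₀_id]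
    · show (y.comp _ _).comp _ _ = y
      rw [Ext.comp_assoc_of_third_deg_zero, Ext.mk₀_comp_mk₀, IsIso.inv_hom_id, Ext.comp_mk₀_id]
  | succ k ih =>
    intro n
    exact bijective_τ₃ (CohCx.freeSheaf (Opens.grothendieckTopology X) U) (toAb_shortExact (godSES_shortExact M k))
      (toAb_shortExact (cycSC_shortExact L hex k)) (T.scHom k) n (subsingleton_HU_God (godQ M k) U n)
      (subsingleton_HU_God (godQ M k) U (n + 1)) (subsingleton_ext_injective hL U k n) (ih (n + 1))

include hL hex h0 in
/-- Cocycles decompose. -/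
theorem exists_decomp_sec (U : X.Opens) (k : ℕ) (z : Γ(L.cycles (k + 1), U)) :
    ∃ (q : Γ(godQ M (k + 1), U)) (i : Γ(L.X k, U)), z = (T.toCyc (k + 1)).app U q + (L.toCycles k (k + 1)).app U i := by
  let J := Opens.grothendieckTopology X
  let e := fun N : X.Modules => SiteBase.secEquiv J U ((toAbFunctor X).obj N)
  obtain ⟨q, i, hqi⟩ := exists_decomp (CohCx.freeSheaf J U) (toAb_shortExact (godSES_shortExact M k))
    (toAb_shortExact (cycSC_shortExact L hex k)) (T.scHom k) (bijective_toCyc_comp hL hex T h0 U k 0)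
    (subsingleton_HU_God (godQ M k) U 0) ((e (L.cycles (k + 1))).symm z)
  refine ⟨e (godQ M (k + 1)) q, e (L.X k) i, ?_⟩
  refine ((e (L.cycles (k + 1))).apply_symm_apply z).symm.trans ((congrArg (e (L.cycles (k + 1))) hqi).trans ?_)
  exact map_add (e (L.cycles (k + 1))) _ _

include hL hex h0 in
/-- Sections going to coboundaries are coboundaries. -/
theorem exists_lift_sec (U : X.Opens) (k : ℕ) (q : Γ(godQ M (k + 1), U)) (i : Γ(L.X k, U))
    (h : (T.toCyc (k + 1)).app U q = (L.toCycles k (k + 1)).app U i) :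
    ∃ g : Γ(God (godQ M k), U), (godπ M k).app U g = q := by
  let J := Opens.grothendieckTopology X
  let e := fun N : X.Modules => SiteBase.secEquiv J U ((toAbFunctor X).obj N)
  obtain ⟨w, hw⟩ := exists_lift_of_eq (CohCx.freeSheaf J U) (toAb_shortExact (godSES_shortExact M k))
    (toAb_shortExact (cycSC_shortExact L hex k)) (T.scHom k) (bijective_toCyc_comp hL hex T h0 U k 0)
    ((e (godQ M (k + 1))).symm q) ((e (L.X k)).symm i) ((e (L.cycles (k + 1))).injective (by
      refine Eq.trans ?_ (Eq.trans h ?_)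
      · exact congrArg ((T.toCyc (k + 1)).app U) ((e (godQ M (k + 1))).apply_symm_apply q)
      · exact congrArg ((L.toCycles k (k + 1)).app U) ((e (L.X k)).apply_symm_apply i).symm))
  refine ⟨e (God (godQ M k)) w, ?_⟩
  exact (congrArg (e (godQ M (k + 1))) hw).symm.trans ((e (godQ M (k + 1))).apply_symm_apply q)

variable {Y : Scheme.{u}} (f : X ⟶ Y)

include hL hex h0 in
/-- **The classes identify the cokernels with the homology.** -/
theorem isIso_desc (k : ℕ) :
    IsIso (cokernel.desc ((Scheme.Modules.pushforward f).map (godπ M k)) (T.cl (Scheme.Modules.pushforward f) (k + 1))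
      (T.map_π_cl (Scheme.Modules.pushforward f) k)) := by
  let F := Scheme.Modules.pushforward f
  let FL := (F.mapHomologicalComplex (ComplexShape.up ℕ)).obj L
  let c : F.obj (godQ M (k + 1)) ⟶ FL.cycles (k + 1) := T.cyc F (k + 1)
  let t : FL.X k ⟶ FL.cycles (k + 1) := FL.toCycles k (k + 1)
  let p := cokernel.π (F.map (godπ M k))
  let D := biprod.desc c t
  have ci : ∀ (V : Y.Opens) (q : Γ(godQ M (k + 1), f ⁻¹ᵁ V)),
      (FL.iCycles (k + 1)).app V (c.app V q) = (T.τ (k + 1)).app (f ⁻¹ᵁ V) q := fun V q =>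
    congr(($(T.cyc_i F (k + 1))).app V q)
  have ti : ∀ (V : Y.Opens) (i : Γ(L.X k, f ⁻¹ᵁ V)),
      (FL.iCycles (k + 1)).app V (t.app V i) = (L.d k (k + 1)).app (f ⁻¹ᵁ V) i := fun V i =>
    congr(($(FL.toCycles_i k (k + 1))).app V i)
  have cL : ∀ (U : X.Opens) (q : Γ(godQ M (k + 1), U)),
      (L.iCycles (k + 1)).app U ((T.toCyc (k + 1)).app U q) = (T.τ (k + 1)).app U q := fun U q =>
    congr(($(T.toCyc_i (k + 1))).app U q)
  have tL : ∀ (U : X.Opens) (i : Γ(L.X k, U)),
      (L.iCycles (k + 1)).app U ((L.toCycles k (k + 1)).app U i) = (L.d k (k + 1)).app U i := fun U i =>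
    congr(($(L.toCycles_i k (k + 1))).app U i)
  haveI : Epi D := by
    refine Preadditive.epi_of_cancel_zero _ fun g hg => Scheme.Modules.hom_ext _ _ fun V => ?_
    ext z
    have hcg : c ≫ g = 0 := by
      rw [← biprod.inl_desc c t, Category.assoc, hg, comp_zero]
    have htg : t ≫ g = 0 := by
      rw [← biprod.inr_desc c t, Category.assoc, hg, comp_zero]
    obtain ⟨y, hy⟩ := exists_app_f_eq (cycSC_shortExact L hex (k + 1)) (f ⁻¹ᵁ V)
      ((FL.iCycles (k + 1)).app V z) (app_injective (L.iCycles (k + 1 + 1)) (f ⁻¹ᵁ V) (by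
        rw [map_zero]
        refine Eq.trans congr(($(L.toCycles_i (k + 1) (k + 1 + 1))).app (f ⁻¹ᵁ V) ((FL.iCycles (k + 1)).app V z)) ?_
        exact congr(($(FL.iCycles_d (k + 1) (k + 1 + 1))).app V z)))
    obtain ⟨q, i, hqi⟩ := exists_decomp_sec hL hex T h0 (f ⁻¹ᵁ V) k y
    have hz : z = c.app V q + t.app V i := app_injective (FL.iCycles (k + 1)) V (by
      rw [← hy, hqi, map_add, map_add, ci, ti]
      exact congr($(cL _ q) + $(tL _ i)))
    rw [hz, map_add, show g.app V (c.app V q) = 0 from congr(($hcg).app V q),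
      show g.app V (t.app V i) = 0 from congr(($htg).app V i), add_zero]
    rfl
  have hker : kernel.ι D ≫ biprod.fst ≫ p = 0 := by
    refine Scheme.Modules.hom_ext _ _ fun V => ?_
    ext x
    let y := (kernel.ι D).app V x
    let q := (biprod.fst (X := F.obj (godQ M (k + 1))) (Y := FL.X k)).app V y
    let i := (biprod.snd (X := F.obj (godQ M (k + 1))) (Y := FL.X k)).app V y
    have h1 : c.app V q + t.app V i = 0 := by
      have e := congr(($(biprod.desc_eq (f := c) (g := t))).app V y)
      exact e.symm.trans congr(($(kernel.condition D)).app V x)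
    obtain ⟨g, hg⟩ := exists_lift_sec hL hex T h0 (f ⁻¹ᵁ V) k q (-i) (app_injective (L.iCycles (k + 1)) (f ⁻¹ᵁ V) (by
      rw [cL, tL, map_neg, ← ci, ← ti]
      exact (congrArg _ (eq_neg_of_add_eq_zero_left h1)).trans (map_neg _ _)))
    show p.app V q = 0
    rw [← hg]
    exact congr(($(cokernel.condition (F.map (godπ M k)))).app V g)
  let m : FL.cycles (k + 1) ⟶ cokernel (F.map (godπ M k)) := (Abelian.epiIsCokernelOfKernel
    (KernelFork.ofι (kernel.ι D) (kernel.condition D)) (kernelIsKernel D)).desc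
      (CokernelCofork.ofπ (biprod.fst ≫ p) hker)
  have hm : D ≫ m = biprod.fst ≫ p := (Abelian.epiIsCokernelOfKernel
    (KernelFork.ofι (kernel.ι D) (kernel.condition D)) (kernelIsKernel D)).fac
      (CokernelCofork.ofπ (biprod.fst ≫ p) hker) WalkingParallelPair.one
  have hcm : c ≫ m = p := by
    rw [← biprod.inl_desc c t, Category.assoc, hm, biprod.inl_fst_assoc]
  have htm : t ≫ m = 0 := by
    rw [← biprod.inr_desc c t, Category.assoc, hm, biprod.inr_fst_assoc, zero_comp]
  obtain ⟨n, hn⟩ := CokernelCofork.IsColimit.desc'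
    (FL.homologyIsCokernel k (k + 1) (CochainComplex.prev_nat_succ k)) m htm
  refine ⟨n, ?_, ?_⟩
  · rw [← cancel_epi p, ← Category.assoc, cokernel.π_desc, GodLift.cl, Category.assoc]
    show c ≫ FL.homologyπ (k + 1) ≫ n = _
    rw [show FL.homologyπ (k + 1) ≫ n = m from hn, hcm, Category.comp_id]
  · rw [← cancel_epi (FL.homologyπ (k + 1)), ← Category.assoc, show FL.homologyπ (k + 1) ≫ n = m from hn,
      ← cancel_epi D, ← Category.assoc, hm, Category.assoc, cokernel.π_desc, GodLift.cl]
    refine biprod.hom_ext' _ _ ?_ ?_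
    · rw [biprod.inl_fst_assoc, biprod.inl_desc_assoc, Category.comp_id]
    · rw [biprod.inr_fst_assoc, zero_comp, biprod.inr_desc_assoc, Category.comp_id,
        HomologicalComplex.toCycles_comp_homologyπ]

end Groth.Agent.FlatBC6
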