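import Groth.Agent.FlatBC6.FlatTensor
import Mathlib.Algebra.Module.Projective
import Mathlib.RingTheory.Finiteness.Projective

/-!
# Cohomology with coefficients in a finite projective module
-/

set_option backward.isDefEq.respectTransparency false
set_option backward.isDefEq.respectTransparency.types false
set_option linter.style.haveILetI false
set_option autoImplicit false
set_option maxRecDepth 4000
set_option maxHeartbeats 1000000

universe u

open CategoryTheory CategoryTheory.Limits AlgebraicGeometry TopologicalSpace Opposite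
open scoped TensorProduct

namespace Groth.Agent.FlatBC6

open Groth.Agent.QCoh Groth.Agent.CohPullLib

variable {A : Type u} [CommRing A] {X : Scheme.{u}} [X.Over (Spec (CommRingCat.of A))] {F : X.Modules} (q : ℕ)

instance additive_tensorAFunctor : (CohIII.tensorAFunctor A F).Additive := by
  haveI : (tilde.functor (CommRingCat.of A)).Additive :=
    haveI := (tilde.adjunction (R := CommRingCat.of A)).isLeftAdjoint
    haveI := preservesBinaryBiproducts_of_preservesBinaryCoproducts (tilde.functor (CommRingCat.of A))
    Functor.additive_of_preservesBinaryBiproducts _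
  haveI : (Scheme.Modules.pullback (X ↘ Spec (CommRingCat.of A))).Additive :=
    (Scheme.Modules.pullbackPushforwardAdjunction _).left_adjoint_additive
  unfold CohIII.tensorAFunctor
  infer_instance

theorem bijective_psi_self (hF : Coh.IsQCoh F) :
    letI := modHH (Coh.toGlobal (X ↘ Spec (CommRingCat.of A))) F q
    Function.Bijective (psi F q (ModuleCat.of A A)) := by
  letI := modHH (Coh.toGlobal (X ↘ Spec (CommRingCat.of A))) F q
  haveI := isIso_jB_one (A := A) F hF
  let J := Sheaf.H.map (jB F (ModuleCat.of A A) (1 : A)) q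
  have : ⇑(psi F q (ModuleCat.of A A)) = J ∘ TensorProduct.lid A (Coh.HH X F q) := funext fun z => by
    induction z using TensorProduct.induction_on with
    | zero => simp only [Function.comp_apply, map_zero]
    | add a b ha hb => simp only [map_add, Function.comp_apply] at ha hb ⊢; rw [ha, hb]
    | tmul a x =>
      rw [psi_tmul]
      show _ = Sheaf.H.map _ q (TensorProduct.lid A (Coh.HH X F q) (a ⊗ₜ x))
      rw [TensorProduct.lid_tmul]
      show _ = Sheaf.H.map _ q (Sheaf.H.map (Coh.smulAb F (Coh.toGlobal (X ↘ Spec (CommRingCat.of A)) a)) q x)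
      rw [← Sheaf.H.map_comp_apply, smulAb_jB]
      simp
  rw [this]
  exact (map_bijective_of_isIso (jB F (ModuleCat.of A A) (1 : A)) q).comp (TensorProduct.lid A _).bijective

/-- **Cohomology commutes with finite projective modules of coefficients.** -/
theorem bijective_psi_finProj (hF : Coh.IsQCoh F) (N : ModuleCat.{u} A) [Module.Finite A N] [Module.Projective A N] :
    letI := modHH (Coh.toGlobal (X ↘ Spec (CommRingCat.of A))) F q
    Function.Bijective (psi F q N) := by
  letI := modHH (Coh.toGlobal (X ↘ Spec (CommRingCat.of A))) F q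
  let H := Coh.HH X F q
  obtain ⟨n, f, g, -, -, hfg⟩ := Module.Finite.exists_comp_eq_id_of_projective A N
  let MA := ModuleCat.of A A
  let ii : Fin n → (MA ⟶ N) := fun j => ModuleCat.ofHom (f.comp (LinearMap.single A (fun _ => A) j))
  let pp : Fin n → (N ⟶ MA) := fun j => ModuleCat.ofHom ((LinearMap.proj j).comp g)
  have hsum : ∑ j, pp j ≫ ii j = 𝟙 N := ModuleCat.hom_ext (LinearMap.ext fun x => by
    have hx : f (g x) = x := LinearMap.congr_fun hfg x
    simp only [ModuleCat.hom_sum, LinearMap.coe_sum, Finset.sum_apply, ModuleCat.hom_id, LinearMap.id_apply]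
    refine Eq.trans ?_ hx
    show ∑ j, f (Pi.single j (g x j)) = f (g x)
    rw [← map_sum, Finset.univ_sum_single])
  let Φ : ∀ {P P' : ModuleCat.{u} A}, (P ⟶ P') → (Coh.HH X (tA F P) q →+ Coh.HH X (tA F P') q) :=
    fun g => Sheaf.H.map ((SheafOfModules.toSheaf X.ringCatSheaf).map ((CohIII.tensorAFunctor A F).map g)) q
  have hΦadd : ∀ {P P' : ModuleCat.{u} A} (g g' : P ⟶ P') (y : Coh.HH X (tA F P) q),
      Φ (g + g') y = Φ g y + Φ g' y := fun g g' y => by
    show Sheaf.H.map _ q y = _
    rw [Functor.map_add, Functor.map_add]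
    exact Sheaf.H.map_add_apply _ _ y
  have hG : ∀ y : Coh.HH X (tA F N) q, ∑ j, Φ (ii j) (Φ (pp j) y) = y := fun y => by
    let ev : (N ⟶ N) →+ Coh.HH X (tA F N) q := AddMonoidHom.mk' (fun g => Φ g y) fun g g' => hΦadd g g' y
    have h := congrArg ev hsum
    rw [map_sum] at h
    refine Eq.trans ?_ (h.trans ?_)
    · refine Finset.sum_congr rfl fun j _ => ?_
      refine (Sheaf.H.map_comp_apply _ _ _).symm.trans ?_
      show _ = Φ (pp j ≫ ii j) y
      rw [← Functor.map_comp, ← Functor.map_comp]
      rfl
    · show Sheaf.H.map _ q y = y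
      rw [CategoryTheory.Functor.map_id, CategoryTheory.Functor.map_id]
      exact Sheaf.H.map_id_apply _
  have hA := bijective_psi_self (A := A) q hF
  refine ⟨(injective_iff_map_eq_zero (psi F q N)).2 fun z hz => ?_, fun y => ?_⟩
  · have hz' : ∀ j, (pp j).hom.rTensor H z = 0 := fun j => hA.1 (by
      rw [← psi_natural F q (pp j) z, hz, map_zero, map_zero])
    have := congrArg (fun φ : N ⟶ N => φ.hom.rTensor H z) hsum
    simp only [ModuleCat.hom_id, LinearMap.rTensor_id, LinearMap.id_apply] at this
    rw [← this, ModuleCat.hom_sum]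
    rw [show (∑ j, (pp j ≫ ii j).hom).rTensor H = ∑ j, (pp j ≫ ii j).hom.rTensor H from
      map_sum (LinearMap.rTensorHom H) _ _]
    simp only [LinearMap.coe_sum, Finset.sum_apply]
    refine Finset.sum_eq_zero fun j _ => ?_
    rw [ModuleCat.hom_comp, LinearMap.rTensor_comp_apply, hz' j, map_zero]
  · choose z hz using fun j => hA.2 (Φ (pp j) y)
    refine ⟨∑ j, (ii j).hom.rTensor H (z j), ?_⟩
    rw [map_sum]
    refine (Finset.sum_congr rfl fun j _ => ?_).trans (hG y)
    exact (psi_natural F q (ii j) (z j)).symm.trans (congrArg (Φ (ii j)) (hz j))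

variable {B : Type u} [CommRing B] [Algebra A B] {X' : Scheme.{u}} {πB : X' ⟶ Spec (CommRingCat.of B)} {k : X' ⟶ X}

/-- Base change along a finite projective algebra. -/
theorem exists_baseChange_finProj [Module.Finite A B] [Module.Projective A B]
    (hk : IsPullback k πB (X ↘ Spec (CommRingCat.of A)) (Spec.map (CommRingCat.ofHom (algebraMap A B))))
    (hF : Coh.IsQCoh F) :
    letI := modHH (Coh.toGlobal (X ↘ Spec (CommRingCat.of A))) F q
    letI := modHH (Coh.toGlobal πB) ((Scheme.Modules.pullback k).obj F) q
    ∃ e : B ⊗[A] Coh.HH X F q ≃ₗ[B] Coh.HH X' ((Scheme.Modules.pullback k).obj F) q,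
      ∀ b x, e (b ⊗ₜ[A] x) = b • CohPull.pullMod k F q x := by
  haveI : IsAffineHom k := MorphismProperty.of_isPullback hk.flip inferInstance
  let F' := (Scheme.Modules.pullback k).obj F
  haveI : Coh.IsQCoh F' := isQCoh_pullback k hF
  letI := modHH (Coh.toGlobal (X ↘ Spec (CommRingCat.of A))) F q
  letI := modHH (Coh.toGlobal πB) F' q
  let NB := ModuleCat.of A B
  haveI : Module.Finite A NB := inferInstanceAs (Module.Finite A B)
  haveI : Module.Projective A NB := inferInstanceAs (Module.Projective A B)
  obtain ⟨θ, hθi, hθ⟩ := exists_theta F hk hF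
  haveI := hθi
  let E : B ⊗[A] Coh.HH X F q ≃+ Coh.HH X' F' q :=
    (AddEquiv.ofBijective (psi F q NB) (bijective_psi_finProj q hF NB)).trans
      (AddEquiv.ofBijective (pab k.base θ q) (pab_bijective_of_isIso k θ q))
  have hE : ∀ (b : B) (x : Coh.HH X F q), E (b ⊗ₜ[A] x) = b • CohPull.pullMod k F q x := fun b x => by
    show pab k.base θ q (psi F q NB (b ⊗ₜ[A] x)) = Sheaf.H.map (Coh.smulAb F' (Coh.toGlobal πB b)) q _
    rw [psi_tmul, pab_map, pullMod_eq_pab, pab_congr_map]
    exact congrArg (fun t => pab k.base t q x) (hθ b)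
  refine ⟨{ E with map_smul' := fun b z => ?_ }, hE⟩
  show E (b • z) = b • E z
  induction z using TensorProduct.induction_on with
  | zero => rw [smul_zero, map_zero, smul_zero]
  | add a c ha hc => rw [smul_add, map_add, map_add, ha, hc, smul_add]
  | tmul m x => rw [TensorProduct.smul_tmul', hE, hE, smul_eq_mul, mul_smul]

end Groth.Agent.FlatBC6
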