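import Groth.Agent.CohPullLib.PullBCMain

/-!
# Pullback of `F ⊗ M` along an affine base change
-/

set_option backward.isDefEq.respectTransparency false
set_option backward.isDefEq.respectTransparency.types false
set_option linter.style.haveILetI false
set_option autoImplicit false
set_option maxRecDepth 4000
set_option maxHeartbeats 1000000

universe u

open CategoryTheory CategoryTheory.Limits AlgebraicGeometry TopologicalSpace Opposite
open scoped TensorProduct

namespace Groth.Agent.FlatBC6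

open Groth.Agent.QCoh Groth.Agent.CohPullLib

variable {A B : Type u} [CommRing A] [CommRing B] [Algebra A B]
  {X X' : Scheme.{u}} [X.Over (Spec (CommRingCat.of A))] [X'.Over (Spec (CommRingCat.of B))] {k : X' ⟶ X}
  (hk : IsPullback k (X' ↘ Spec (CommRingCat.of B)) (X ↘ Spec (CommRingCat.of A))
    (Spec.map (CommRingCat.ofHom (algebraMap A B))))
  (F : X.Modules) (M : Type u) [AddCommGroup M] [Module B M] [Module A M] [IsScalarTower A B M]

include hk in
/-- `F ⊗_A M` is the direct image of `k^* F ⊗_B M`. -/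
theorem exists_thetaMod (hF : Coh.IsQCoh F) :
    ∃ θ : Coh.toAb (tA F (ModuleCat.of A M)) ⟶
      (CohTop.push k.base).obj (Coh.toAb (tA ((Scheme.Modules.pullback k).obj F) (ModuleCat.of B M))), IsIso θ ∧
      ∀ m : M, jB F (ModuleCat.of A M) m ≫ θ = unitAb F ≫
        (CohTop.push k.base).map (jB ((Scheme.Modules.pullback k).obj F) (ModuleCat.of B M) m) := by
  haveI : IsAffineHom k := MorphismProperty.of_isPullback hk.flip inferInstance
  let F' := (Scheme.Modules.pullback k).obj F
  have hF' : Coh.IsQCoh F' := isQCoh_pullback k hF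
  let NA := ModuleCat.of A M
  let NB := ModuleCat.of B M
  let T := tA F' NB
  let ρ := Coh.toGlobal (X ↘ Spec (CommRingCat.of A))
  let ρ' := Coh.toGlobal (X' ↘ Spec (CommRingCat.of B))
  have hρ := toGlobal_comm (X ↘ Spec (CommRingCat.of A)) (X' ↘ Spec (CommRingCat.of B)) k hk.w
  let G := (CohTop.push k.base).obj (Coh.toAb T)
  have key : ∀ U : X.affineOpens, ∃ t : Γ(tA F NA, U.1) →+ Γ(T, k ⁻¹ᵁ U.1), Function.Bijective t ∧
      ∀ (s : Γ(F, U.1)) (m : M), t (tmS _ F (uSec NA U.1 m) s) =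
        tmS _ F' (uSec NB (k ⁻¹ᵁ U.1) m) (pullSec k F le_rfl s) := by
    intro U
    letI := secModule ρ F U.1
    letI := secModule ρ' F' (k ⁻¹ᵁ U.1)
    letI := secModule (ρ'.comp (algebraMap A B)) F' (k ⁻¹ᵁ U.1)
    haveI : IsScalarTower A B Γ(F', k ⁻¹ᵁ U.1) := .of_algebraMap_smul fun _ _ => rfl
    let η : F ⟶ (Scheme.Modules.pushforward k).obj F' :=
      (Scheme.Modules.pullbackPushforwardAdjunction k).unit.app F
    have h : IsBaseChange B (secLin ρ ρ' k η hρ U.1 (k ⁻¹ᵁ U.1) le_rfl) :=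
      isAffineBC_of_isPullback hk hF U.1 U.2
    let τ := AddEquiv.ofBijective (tauA F NA U.1).toAddMonoidHom (bijective_tauA F hF NA U.2)
    let τ' := AddEquiv.ofBijective (tauA F' NB (k ⁻¹ᵁ U.1)).toAddMonoidHom
      (bijective_tauA F' hF' NB (U.2.preimage k))
    let e : Γ(F, U.1) ⊗[A] M ≃+ Γ(T, k ⁻¹ᵁ U.1) :=
      (TensorProduct.comm A Γ(F, U.1) M).toAddEquiv.trans ((h.tensorEquiv M).symm.toAddEquiv.trans
        ((TensorProduct.comm B M Γ(F', k ⁻¹ᵁ U.1)).toAddEquiv.trans τ'))
    refine ⟨(τ.symm.trans e).toAddMonoidHom, (τ.symm.trans e).bijective, fun s m => ?_⟩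
    have h1 : τ.symm (tmS _ F (uSec NA U.1 m) s) = (s ⊗ₜ[A] (show NA from m)) := by
      rw [AddEquiv.symm_apply_eq]
      rfl
    show e (τ.symm _) = _
    rw [h1]
    show τ' (TensorProduct.comm B M _ ((h.tensorEquiv M).symm (TensorProduct.comm A Γ(F, U.1) M (s ⊗ₜ[A] m)))) = _
    have h2 : (h.tensorEquiv M).symm (m ⊗ₜ[A] s) =
        m ⊗ₜ[B] (secLin ρ ρ' k η hρ U.1 (k ⁻¹ᵁ U.1) le_rfl s) := by
      rw [LinearEquiv.symm_apply_eq]
      simp [IsBaseChange.tensorEquiv, IsBaseChange.equiv_symm_apply]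
    rw [TensorProduct.comm_tmul, h2, TensorProduct.comm_tmul]
    rfl
  choose t ht hts using key
  have nat : ∀ (U V : X.affineOpens) (i : U.1 ⟶ V.1) (z : Γ(tA F NA, V.1)),
      t U ((tA F NA).presheaf.map i.op z) =
        T.presheaf.map ((Opens.map k.base).map i).op (t V z) := by
    intro U V i z
    letI := secModule ρ F V.1
    obtain ⟨w, rfl⟩ := (bijective_tauA F hF NA V.2).2 z
    induction w using TensorProduct.induction_on with
    | zero => simp
    | add x y hx hy => simp only [map_add, hx, hy]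
    | tmul s m =>
      refine (congrArg (t U) (map_tauA F NA i s m)).trans ((hts U _ m).trans ?_)
      refine Eq.trans ?_ (congrArg _ (hts V s m)).symm
      refine Eq.trans ?_ (map_tauA F' NB ((Opens.map k.base).map i) _ m).symm
      exact congrArg _ (ExistEasy.pullSec_res k F i.le (k.preimage_mono i.le) le_rfl le_rfl s).symm
  let α : (inducedFunctor (fun U : X.affineOpens => U.1)).op ⋙ (Coh.toAb (tA F NA)).obj ⟶
      (inducedFunctor (fun U : X.affineOpens => U.1)).op ⋙ G.obj :=
    { app := fun U => AddCommGrpCat.ofHom (t U.unop)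
      naturality := fun V U i => AddCommGrpCat.ext fun z => nat U.unop V.unop i.unop.hom z }
  let θ : Coh.toAb (tA F NA) ⟶ G := ⟨TopCat.Sheaf.restrictHomEquivHom _ G (isBasis_affine X) α⟩
  have hθ : ∀ U : X.affineOpens, θ.hom.app (op U.1) = AddCommGrpCat.ofHom (t U) := fun U =>
    TopCat.Sheaf.extend_hom_app _ G (isBasis_affine X) α U
  refine ⟨θ, TopCat.Sheaf.isIso_iff_isIso_basis (isBasis_affine X) fun U => ?_, fun m => ?_⟩
  · rw [hθ]
    exact (ConcreteCategory.isIso_iff_bijective _).2 (ht U)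
  · refine Sheaf.hom_ext (TopCat.Sheaf.hom_ext _ _ (isBasis_affine X) fun U => ?_)
    ext s
    show θ.hom.app (op U.1) ((jB F NA m).hom.app (op U.1) s) =
      (jB F' NB m).hom.app (op (k ⁻¹ᵁ U.1)) ((unitAb F).hom.app (op U.1) s)
    rw [hθ, jB_app, unitAb_app, jB_app]
    exact hts U s m

end Groth.Agent.FlatBC6
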