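import Groth.Agent.FlatBC6.Zero
import Groth.Agent.FlatBC6.Theta2
import Groth.Agent.FlatMisc.RingPullback
import Mathlib.Algebra.TrivSqZeroExt.Basic

/-!
# Cohomology with coefficients in a flat module
-/

set_option backward.isDefEq.respectTransparency false
set_option backward.isDefEq.respectTransparency.types false
set_option linter.style.haveILetI false
set_option autoImplicit false
set_option maxRecDepth 4000
set_option maxHeartbeats 1000000

universe u

open CategoryTheory CategoryTheory.Limits AlgebraicGeometry TopologicalSpace Opposite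
open scoped TensorProduct

namespace Groth.Agent.FlatBC6

open Groth.Agent.QCoh Groth.Agent.CohPullLib

variable {A : Type u} [CommRing A] {X : Scheme.{u}} [X.Over (Spec (CommRingCat.of A))] (F : X.Modules) (q : ℕ)

theorem jB_add (N : ModuleCat.{u} A) (n n' : N) : jB F N (n + n') = jB F N n + jB F N n' := by
  ext V s
  refine (congrArg (fun t => tmS _ F t s) (uSec_add N V.unop n n')).trans ?_
  exact tmS_add_left _ F _ _ s

/-- `n ⊗ x ↦ x ⊗ n`. -/
noncomputable def psi (N : ModuleCat.{u} A) :
    letI := modHH (Coh.toGlobal (X ↘ Spec (CommRingCat.of A))) F q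
    (N ⊗[A] Coh.HH X F q) →+ Coh.HH X (tA F N) q :=
  letI := modHH (Coh.toGlobal (X ↘ Spec (CommRingCat.of A))) F q
  TensorProduct.liftAddHom
    (AddMonoidHom.mk' (fun n => Sheaf.H.map (jB F N n) q) fun n n' => by
      ext x
      rw [jB_add]
      exact Sheaf.H.map_add_apply _ _ x)
    fun a n x => by
      show Sheaf.H.map (jB F N (a • n)) q x =
        Sheaf.H.map (jB F N n) q (Sheaf.H.map (Coh.smulAb F (Coh.toGlobal _ a)) q x)
      rw [← smulAb_jB, Sheaf.H.map_comp_apply]

theorem psi_tmul (N : ModuleCat.{u} A) (n : N) (x : Coh.HH X F q) :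
    letI := modHH (Coh.toGlobal (X ↘ Spec (CommRingCat.of A))) F q
    psi F q N (n ⊗ₜ[A] x) = Sheaf.H.map (jB F N n) q x := rfl

theorem psi_natural {N N' : ModuleCat.{u} A} (g : N ⟶ N')
    (z : letI := modHH (Coh.toGlobal (X ↘ Spec (CommRingCat.of A))) F q; N ⊗[A] Coh.HH X F q) :
    letI := modHH (Coh.toGlobal (X ↘ Spec (CommRingCat.of A))) F q
    Sheaf.H.map ((SheafOfModules.toSheaf X.ringCatSheaf).map ((CohIII.tensorAFunctor A F).map g)) q (psi F q N z) =
      psi F q N' (g.hom.rTensor _ z) := by
  letI := modHH (Coh.toGlobal (X ↘ Spec (CommRingCat.of A))) F q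
  induction z using TensorProduct.induction_on with
  | zero => simp only [map_zero]
  | add a b ha hb => simp only [map_add, ← ha, ← hb]
  | tmul n x =>
    rw [LinearMap.rTensor_tmul, psi_tmul, psi_tmul, ← jB_map F g n]
    exact (Sheaf.H.map_comp_apply _ _ _).symm

variable {F} (hF : Coh.IsQCoh F) [CompactSpace X] [QuasiSeparatedSpace X]

include hF in
theorem bijective_psi_algebra (B : Type u) [CommRing B] [Algebra A B] [Module.Flat A B] :
    letI := modHH (Coh.toGlobal (X ↘ Spec (CommRingCat.of A))) F q
    Function.Bijective (psi F q (ModuleCat.of A B)) := by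
  let pA := X ↘ Spec (CommRingCat.of A)
  let sB := Spec.map (CommRingCat.ofHom (algebraMap A B))
  let k := pullback.fst pA sB
  have hk : IsPullback k (pullback.snd pA sB) pA sB := IsPullback.of_hasPullback pA sB
  haveI : IsAffineHom k := MorphismProperty.of_isPullback hk.flip inferInstance
  let F' := (Scheme.Modules.pullback k).obj F
  haveI : Coh.IsQCoh F' := isQCoh_pullback k hF
  letI := modHH (Coh.toGlobal pA) F q
  letI := modHH (Coh.toGlobal (pullback.snd pA sB)) F' q
  letI := modHH ((Coh.toGlobal (pullback.snd pA sB)).comp (algebraMap A B)) F' q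
  haveI : IsScalarTower A B (Coh.HH (pullback pA sB) F' q) := .of_algebraMap_smul fun _ _ => rfl
  obtain ⟨l, hl, hlb⟩ := isBaseChange_pullMod_flat pA hk hF q
  obtain ⟨θ, hθi, hθ⟩ := exists_theta F hk hF
  haveI := hθi
  let P := AddEquiv.ofBijective (pab k.base θ q) (pab_bijective_of_isIso k θ q)
  have key : ∀ z, P (psi F q (ModuleCat.of A B) z) = hlb.equiv z := fun z => by
    induction z using TensorProduct.induction_on with
    | zero => simp only [map_zero]
    | add a b ha hb => simp only [map_add, ha, hb]
    | tmul b x =>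
      refine Eq.trans ?_ (IsBaseChange.equiv_tmul hlb b x).symm
      rw [hl, psi_tmul]
      show pab k.base θ q (Sheaf.H.map _ q x) = Sheaf.H.map (Coh.smulAb F' (Coh.toGlobal (pullback.snd pA sB) b)) q _
      rw [pab_map, pullMod_eq_pab, pab_congr_map]
      exact congrArg (fun t => pab k.base t q x) (hθ b)
  have : ⇑(psi F q (ModuleCat.of A B)) = P.symm ∘ hlb.equiv :=
    funext fun z => P.injective ((key z).trans (P.apply_symm_apply _).symm)
  rw [this]
  exact P.symm.bijective.comp hlb.equiv.bijective

include hF in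
/-- **Cohomology commutes with flat modules of coefficients.** -/
theorem bijective_psi (N : ModuleCat.{u} A) [Module.Flat A N] :
    letI := modHH (Coh.toGlobal (X ↘ Spec (CommRingCat.of A))) F q
    Function.Bijective (psi F q N) := by
  letI := modHH (Coh.toGlobal (X ↘ Spec (CommRingCat.of A))) F q
  letI : Module Aᵐᵒᵖ N := Module.compHom N ((RingHom.id A).fromOpposite mul_comm)
  haveI : IsCentralScalar A N := ⟨fun a m => rfl⟩
  let B := TrivSqZeroExt A N
  haveI : Module.Flat A (A × N) := FlatMisc.flat_prod
  haveI : Module.Flat A B := Module.Flat.of_linearEquiv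
    (M := A × N) { toFun := fun x => (x : A × N), invFun := fun x => (x : TrivSqZeroExt A N),
                   map_add' := fun _ _ => rfl, map_smul' := fun _ _ => rfl,
                   left_inv := fun x => rfl, right_inv := fun x => rfl }
  let i : N ⟶ ModuleCat.of A B := ModuleCat.ofHom (TrivSqZeroExt.inrHom A N)
  let r : ModuleCat.of A B ⟶ N := ModuleCat.ofHom (TrivSqZeroExt.sndHom A N)
  have hir : i ≫ r = 𝟙 N := ModuleCat.hom_ext (LinearMap.ext fun n => rfl)
  let Φ : ∀ {N N' : ModuleCat.{u} A}, (N ⟶ N') → (Coh.HH X (tA F N) q →+ Coh.HH X (tA F N') q) :=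
    fun g => Sheaf.H.map ((SheafOfModules.toSheaf X.ringCatSheaf).map ((CohIII.tensorAFunctor A F).map g)) q
  have hB := bijective_psi_algebra (A := A) q hF B
  have hΦ : ∀ y, Φ r (Φ i y) = y := fun y => by
    refine (Sheaf.H.map_comp_apply _ _ _).symm.trans ?_
    rw [← Functor.map_comp, ← Functor.map_comp, hir, CategoryTheory.Functor.map_id, CategoryTheory.Functor.map_id]
    exact Sheaf.H.map_id_apply _
  have hr : ∀ z, r.hom.rTensor (Coh.HH X F q) (i.hom.rTensor (Coh.HH X F q) z) = z := fun z => by
    rw [← LinearMap.rTensor_comp_apply]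
    have : r.hom.comp i.hom = LinearMap.id := congrArg ModuleCat.Hom.hom hir
    rw [this, LinearMap.rTensor_id]
    rfl
  refine ⟨fun a b hab => ?_, fun y => ?_⟩
  · have h := congrArg (Φ i) hab
    have h' := ((psi_natural F q i a).symm.trans h).trans (psi_natural F q i b)
    rw [← hr a, hB.1 h', hr b]
  · obtain ⟨z, hz⟩ := hB.2 (Φ i y)
    exact ⟨r.hom.rTensor _ z, (psi_natural F q r z).symm.trans ((congrArg (Φ r) hz).trans (hΦ y))⟩

end Groth.Agent.FlatBC6
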