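import Groth.Agent.FlatBC6.Comp
import Groth.Agent.FlatBC6.Class
import Groth.Agent.CohPullLib.Compose

/-!
# The pullback over opens as a pullback along a map to a direct image
-/

set_option backward.isDefEq.respectTransparency false
set_option backward.isDefEq.respectTransparency.types false
set_option linter.style.haveILetI false
set_option autoImplicit false
set_option maxRecDepth 4000
set_option maxHeartbeats 800000

universe u

open CategoryTheory CategoryTheory.Limits AlgebraicGeometry TopologicalSpace Opposite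

namespace Groth.Agent.FlatBC6

open Groth.Agent.QCoh Groth.Agent.CohPullLib Groth.Agent.ExistEasy

variable {X X' : Scheme.{u}} (g' : X' ⟶ X) (U : X.Opens) (U' : X'.Opens) (h : U' ≤ g' ⁻¹ᵁ U) (M : X.Modules)

/-- The pullback over opens, as a map to a direct image. -/
noncomputable def pullOnHom : M.restrict U.ι ⟶
    (Scheme.Modules.pushforward (g'.resLE U U' h)).obj (((Scheme.Modules.pullback g').obj M).restrict U'.ι) :=
  (Scheme.Modules.pullbackPushforwardAdjunction (g'.resLE U U' h)).unit.app (M.restrict U.ι) ≫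
    (Scheme.Modules.pushforward (g'.resLE U U' h)).map (CohPull.pullOnIso g' U U' h M).hom

theorem pullOnMap_eq_etaAb : pullOnMap g' U U' h M = etaAb (g'.resLE U U' h) (pullOnHom g' U U' h M) :=
  ((SheafOfModules.toSheaf U.toScheme.ringCatSheaf).map_comp
    ((Scheme.Modules.pullbackPushforwardAdjunction (g'.resLE U U' h)).unit.app (M.restrict U.ι))
    ((Scheme.Modules.pushforward (g'.resLE U U' h)).map (CohPull.pullOnIso g' U U' h M).hom)).symm

theorem pullOn_eq_pab_etaAb (p : ℕ) (x : Coh.HHon X M U p) :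
    CohPull.pullOn g' U U' h M p x = pab (g'.resLE U U' h).base (etaAb _ (pullOnHom g' U U' h M)) p x := by
  rw [pullOn_eq_pab, pullOnMap_eq_etaAb]

theorem pullOn_cls (k : ℕ) (v : Γ(godQ (M.restrict U.ι) k, ⊤)) :
    CohPull.pullOn g' U U' h M k (cls (M.restrict U.ι) k v) =
      cls (((Scheme.Modules.pullback g').obj M).restrict U'.ι) k
        ((godQMap (g'.resLE U U' h) (pullOnHom g' U U' h M) k).app ⊤ v) :=
  (pullOn_eq_pab_etaAb g' U U' h M k _).trans (pab_cls _ _ k v)

theorem pullOnHom_app (O : U.toScheme.Opens) (s : Γ(M.restrict U.ι, O)) :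
    (show Γ(((Scheme.Modules.pullback g').obj M).restrict U'.ι, g'.resLE U U' h ⁻¹ᵁ O) from
        (pullOnHom g' U U' h M).app O s) =
      (show Γ(((Scheme.Modules.pullback g').obj M).restrict U'.ι, g'.resLE U U' h ⁻¹ᵁ O) from
        pullSec g' M (resLE_image_le g' U U' h O) (show Γ(M, U.ι ''ᵁ O) from s)) := by
  refine Eq.trans ?_ (pullOnMap_app g' U U' h M O s)
  rw [pullOnMap_eq_etaAb]
  rfl

/-- The two routes from a module to its pullback over opens agree. -/
theorem routesEq_pullOnHom :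
    RoutesEq (a := g'.resLE U U' h) (b := U.ι) (a' := U'.ι) (b' := g') (Scheme.Hom.resLE_comp_ι g' h)
      ((Scheme.Modules.restrictAdjunction U.ι).unit.app M) (pullOnHom g' U U' h M)
      ((Scheme.Modules.pullbackPushforwardAdjunction g').unit.app M)
      ((Scheme.Modules.restrictAdjunction U'.ι).unit.app ((Scheme.Modules.pullback g').obj M)) := by
  intro O hle s
  refine (pullOnHom_app g' U U' h M (U.ι ⁻¹ᵁ O) _).trans ?_
  have h1 : U'.ι ''ᵁ (g'.resLE U U' h ⁻¹ᵁ (U.ι ⁻¹ᵁ O)) ≤ g' ⁻¹ᵁ O :=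
    (resLE_image_le g' U U' h _).trans (g'.preimage_mono (U.ι.image_preimage_le O))
  refine Eq.trans ?_ (b := (show Γ(((Scheme.Modules.pullback g').obj M).restrict U'.ι,
      g'.resLE U U' h ⁻¹ᵁ (U.ι ⁻¹ᵁ O)) from pullSec g' M h1 (show Γ(M, O) from s))) ?_
  · have e : (show Γ(M, U.ι ''ᵁ (U.ι ⁻¹ᵁ O)) from ((Scheme.Modules.restrictAdjunction U.ι).unit.app M).app O s) =
        M.presheaf.map (homOfLE (U.ι.image_preimage_le O)).op s := by
      rw [Scheme.Modules.restrictAdjunction_unit_app_app]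
      rfl
    refine (congrArg (pullSec g' M (resLE_image_le g' U U' h (U.ι ⁻¹ᵁ O))) e).trans ?_
    refine Eq.trans (pullSec_res g' M (U.ι.image_preimage_le O) (le_refl (U'.ι ''ᵁ (g'.resLE U U' h ⁻¹ᵁ (U.ι ⁻¹ᵁ O))))
      h1 (resLE_image_le g' U U' h (U.ι ⁻¹ᵁ O)) (show Γ(M, O) from s)).symm ?_
    dsimp only
    rw [Subsingleton.elim (homOfLE (le_refl (U'.ι ''ᵁ (g'.resLE U U' h ⁻¹ᵁ (U.ι ⁻¹ᵁ O))))).op (𝟙 _),
      CategoryTheory.Functor.map_id]
    rfl
  · show pullSec g' M h1 (show Γ(M, O) from s) = _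
    refine Eq.symm ?_
    unfold rs pullSec
    rw [Scheme.Modules.restrictAdjunction_unit_app_app, Scheme.Modules.restrict_map]
    exact QCoh.map_map (M := (Scheme.Modules.pullback g').obj M) ((Scheme.Hom.opensFunctor U'.ι).map (homOfLE hle))
      (homOfLE (U'.ι.image_preimage_le (g' ⁻¹ᵁ O)))
      (((Scheme.Modules.pullbackPushforwardAdjunction g').unit.app M).app O s)

end Groth.Agent.FlatBC6
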