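import Groth.Agent.FlatBC6.BC
import Groth.Agent.CohPullLib.BC0
import Mathlib.AlgebraicGeometry.Morphisms.Flat

/-!
# Flat base change in degree zero
-/

set_option backward.isDefEq.respectTransparency false
set_option backward.isDefEq.respectTransparency.types false
set_option linter.style.haveILetI false
set_option autoImplicit false
set_option maxRecDepth 4000
set_option maxHeartbeats 1000000

universe u

open CategoryTheory CategoryTheory.Limits AlgebraicGeometry TopologicalSpace Opposite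
open scoped TensorProduct

namespace Groth.Agent.FlatBC6

open Groth.Agent.QCoh Groth.Agent.CohPullLib

section Pull

variable {A B : Type u} [CommRing A] [CommRing B] [Algebra A B] {X X' : Scheme.{u}}

/-- Pullback of classes along a flat affine base change is a base change. -/
theorem isBaseChange_pullMod_flat [Module.Flat A B] (pA : X ⟶ Spec (CommRingCat.of A))
    [CompactSpace X] [QuasiSeparatedSpace X] {πB : X' ⟶ Spec (CommRingCat.of B)} {k : X' ⟶ X}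
    (hk : IsPullback k πB pA (Spec.map (CommRingCat.ofHom (algebraMap A B)))) {F : X.Modules}
    (hF : Coh.IsQCoh F) (p : ℕ) :
    letI := modHH (Coh.toGlobal pA) F p
    letI := modHH (Coh.toGlobal πB) ((Scheme.Modules.pullback k).obj F) p
    letI := modHH ((Coh.toGlobal πB).comp (algebraMap A B)) ((Scheme.Modules.pullback k).obj F) p
    haveI : IsScalarTower A B (Coh.HH X' ((Scheme.Modules.pullback k).obj F) p) :=
      .of_algebraMap_smul fun _ _ => rfl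
    ∃ l : Coh.HH X F p →ₗ[A] Coh.HH X' ((Scheme.Modules.pullback k).obj F) p,
      (∀ x, l x = CohPull.pullMod k F p x) ∧ IsBaseChange B l := by
  haveI : IsAffineHom k := MorphismProperty.of_isPullback hk.flip inferInstance
  exact ⟨_, fun x => (pullMod_eq_pab k F p x).symm,
    isBaseChange_pab k (Coh.toGlobal pA) (Coh.toGlobal πB) (QCoh.toGlobal_comm pA πB k hk.w) _ hF
      (isQCoh_pullback k hF) (QCoh.isAffineBC_of_isPullback hk hF) p⟩

end Pull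

variable {X S S' X' : Scheme.{u}} {f : X ⟶ S} {g : S' ⟶ S} {f' : X' ⟶ S'} {g' : X' ⟶ X}

/-- Being an isomorphism of modules is decided on affine pairs. -/
theorem isIso_of_app_affPair {P Q : S'.Modules} (φ : P ⟶ Q)
    (h : ∀ (V : S.Opens) (W : S'.Opens), IsAffineOpen V → IsAffineOpen W → W ≤ g ⁻¹ᵁ V →
      Function.Bijective (φ.app W)) : IsIso φ := by
  haveI : IsIso ((SheafOfModules.toSheaf S'.ringCatSheaf).map φ) :=
    TopCat.Sheaf.isIso_iff_isIso_basis (isBasis_affPair g) fun W => by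
      obtain ⟨⟨W, hW⟩, V, hV, hle⟩ := W
      exact (ConcreteCategory.isIso_iff_bijective _).2 (h V W hV hW hle)
  haveI : IsIso ((Scheme.Modules.toPresheaf S').map φ) :=
    inferInstanceAs (IsIso ((TopCat.Sheaf.forget AddCommGrpCat.{u} S'.toPresheafedSpace.carrier).map
      ((SheafOfModules.toSheaf S'.ringCatSheaf).map φ)))
  exact isIso_of_reflects_iso _ (Scheme.Modules.toPresheaf S')

/-- The pullback of classes over affine opens of a flat base change. -/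
theorem exists_pullOn_flat [QuasiCompact f] [QuasiSeparated f] [Flat g] (h : IsPullback g' f' f g) {F : X.Modules}
    (hF : Coh.IsQCoh F) (p : ℕ) {V : S.Opens} (hV : IsAffineOpen V) {W : S'.Opens} (hW : IsAffineOpen W)
    (hle : W ≤ g ⁻¹ᵁ V) :
    letI : Algebra Γ(S, V) Γ(S', W) := (g.appLE V W hle).hom.toAlgebra
    letI := modHH (Coh.toGlobal (secπ f hV (le_refl (f ⁻¹ᵁ V)))) (F.restrict (f ⁻¹ᵁ V).ι) p
    letI := modHH (Coh.toGlobal (secπ f' hW (le_refl (f' ⁻¹ᵁ W))))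
      ((Scheme.Modules.pullback (g'.resLE (f ⁻¹ᵁ V) (f' ⁻¹ᵁ W) (sectLE h.w hle))).obj (F.restrict (f ⁻¹ᵁ V).ι)) p
    letI := modHH ((Coh.toGlobal (secπ f' hW (le_refl (f' ⁻¹ᵁ W)))).comp (algebraMap Γ(S, V) Γ(S', W)))
      ((Scheme.Modules.pullback (g'.resLE (f ⁻¹ᵁ V) (f' ⁻¹ᵁ W) (sectLE h.w hle))).obj (F.restrict (f ⁻¹ᵁ V).ι)) p
    haveI : IsScalarTower Γ(S, V) Γ(S', W) (Coh.HH (f' ⁻¹ᵁ W).toScheme
        ((Scheme.Modules.pullback (g'.resLE (f ⁻¹ᵁ V) (f' ⁻¹ᵁ W) (sectLE h.w hle))).obj (F.restrict (f ⁻¹ᵁ V).ι)) p) :=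
      .of_algebraMap_smul fun _ _ => rfl
    ∃ l : Coh.HH (f ⁻¹ᵁ V).toScheme (F.restrict (f ⁻¹ᵁ V).ι) p →ₗ[Γ(S, V)] Coh.HH (f' ⁻¹ᵁ W).toScheme
        ((Scheme.Modules.pullback (g'.resLE (f ⁻¹ᵁ V) (f' ⁻¹ᵁ W) (sectLE h.w hle))).obj (F.restrict (f ⁻¹ᵁ V).ι)) p,
      (∀ x, l x = CohPull.pullMod (g'.resLE (f ⁻¹ᵁ V) (f' ⁻¹ᵁ W) (sectLE h.w hle)) (F.restrict (f ⁻¹ᵁ V).ι) p x) ∧
        IsBaseChange Γ(S', W) l := by
  letI : Algebra Γ(S, V) Γ(S', W) := (g.appLE V W hle).hom.toAlgebra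
  haveI : Module.Flat Γ(S, V) Γ(S', W) := g.flat_appLE hV hW hle
  haveI : CompactSpace (f ⁻¹ᵁ V).toScheme := isCompact_iff_compactSpace.mp (f.isCompact_preimage hV.isCompact)
  haveI : QuasiSeparatedSpace (f ⁻¹ᵁ V).toScheme :=
    isQuasiSeparated_iff_quasiSeparatedSpace ((f ⁻¹ᵁ V : X.Opens) : Set X) (f ⁻¹ᵁ V).2 |>.mp
      (f.isQuasiSeparated_preimage hV.isQuasiSeparated)
  exact isBaseChange_pullMod_flat (secπ f hV le_rfl) (isPullback_sect h hV hW hle) (isQCoh_restrict _ hF) p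

theorem bijective_bc0_app_flat [QuasiCompact f] [QuasiSeparated f] [Flat g] (h : IsPullback g' f' f g)
    {F : X.Modules} (hF : Coh.IsQCoh F) {V : S.Opens} (hV : IsAffineOpen V) {W : S'.Opens} (hW : IsAffineOpen W)
    (hle : W ≤ g ⁻¹ᵁ V) : Function.Bijective ((CohBC.bc0 f g f' g' h.w F).app W) := by
  letI : Algebra Γ(S, V) Γ(S', W) := (g.appLE V W hle).hom.toAlgebra
  let A := Γ(S, V)
  let C := Γ(S', W)
  let k := g'.resLE (f ⁻¹ᵁ V) (f' ⁻¹ᵁ W) (sectLE h.w hle)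
  let F₀ := F.restrict (f ⁻¹ᵁ V).ι
  let F₁ := (Scheme.Modules.pullback k).obj F₀
  let F' := (Scheme.Modules.pullback g').obj F
  let M := (Scheme.Modules.pushforward f).obj F
  let M' := (Scheme.Modules.pushforward f').obj F'
  letI := modHH (Coh.toGlobal (secπ f hV (le_refl (f ⁻¹ᵁ V)))) F₀ 0
  letI := modHH (Coh.toGlobal (secπ f' hW (le_refl (f' ⁻¹ᵁ W)))) F₁ 0
  letI := modHH ((Coh.toGlobal (secπ f' hW (le_refl (f' ⁻¹ᵁ W)))).comp (algebraMap A C)) F₁ 0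
  haveI : IsScalarTower A C (Coh.HH (f' ⁻¹ᵁ W).toScheme F₁ 0) := .of_algebraMap_smul fun _ _ => rfl
  obtain ⟨l, hl, hlb⟩ := exists_pullOn_flat h hF 0 hV hW hle
  letI : Module A Γ((Scheme.Modules.pullback g).obj M, W) := Module.compHom _ (g.appLE V W hle).hom
  haveI : IsScalarTower A C Γ((Scheme.Modules.pullback g).obj M, W) :=
    ⟨fun a b c => mul_smul ((g.appLE V W hle).hom a) b c⟩
  obtain ⟨l₀, hl₀, hb₀⟩ := ExistEasy.exists_pullSec_baseChange g (isQCoh_pushforward f hF) hW hV hle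
  let eV₀ : Γ(M, V) ≃+ Coh.HH (f ⁻¹ᵁ V).toScheme F₀ 0 := CohPull.sectH0 F (f ⁻¹ᵁ V)
  let eV : Γ(M, V) ≃ₗ[A] Coh.HH (f ⁻¹ᵁ V).toScheme F₀ 0 := eV₀.toLinearEquiv fun a s => by
    show CohPull.sectH0 F (f ⁻¹ᵁ V) (f.app V a • (show Γ(F, f ⁻¹ᵁ V) from s)) =
      Sheaf.H.map (Coh.smulAb F₀ (Coh.toGlobal (secπ f hV (le_refl (f ⁻¹ᵁ V))) a)) 0
        (CohPull.sectH0 F (f ⁻¹ᵁ V) s)
    rw [toGlobal_secπ, ← Scheme.Hom.app_eq_appLE, smulAb_sectH0]
  let φ := (CohPull.pullOnIso g' (f ⁻¹ᵁ V) (f' ⁻¹ᵁ W) (sectLE h.w hle) F).hom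
  let Φ := (SheafOfModules.toSheaf (f' ⁻¹ᵁ W).toScheme.ringCatSheaf).map φ
  haveI : IsIso Φ := inferInstance
  let eW₀ : Coh.HH (f' ⁻¹ᵁ W).toScheme F₁ 0 ≃+ Γ(M', W) :=
    (AddEquiv.ofBijective (Sheaf.H.map Φ 0) (map_bijective_of_isIso Φ 0)).trans
      (CohPull.sectH0 F' (f' ⁻¹ᵁ W)).symm
  have hsm : ∀ (c : C) (y), eW₀ (c • y) = c • eW₀ y := fun c y => by
    obtain ⟨s, rfl⟩ := eW₀.symm.surjective y
    rw [AddEquiv.apply_symm_apply]
    show (CohPull.sectH0 F' (f' ⁻¹ᵁ W)).symm (Sheaf.H.map Φ 0 (Sheaf.H.map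
      (Coh.smulAb F₁ (Coh.toGlobal (secπ f' hW (le_refl (f' ⁻¹ᵁ W))) c)) 0 (eW₀.symm s))) = _
    rw [AddEquiv.symm_apply_eq, ← Sheaf.H.map_comp_apply, toGlobal_secπ, ← Scheme.Hom.app_eq_appLE]
    refine Eq.trans ?_ (smulAb_sectH0 F' (f' ⁻¹ᵁ W) (f'.app W c) s)
    have hΦ : Sheaf.H.map Φ 0 (eW₀.symm s) = CohPull.sectH0 F' (f' ⁻¹ᵁ W) s :=
      (AddEquiv.symm_apply_eq _).1 (eW₀.apply_symm_apply s)
    refine Eq.trans ?_ (congrArg (Sheaf.H.map _ 0) hΦ)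
    refine Eq.trans ?_ (Sheaf.H.map_comp_apply _ _ _)
    refine congrArg (fun t => Sheaf.H.map t 0 (eW₀.symm s)) ?_
    ext O t
    exact (Scheme.Modules.Hom.app_smul φ (Coh.resTop (f' ⁻¹ᵁ W).toScheme O _) t).symm.symm
  let R : C ⊗[A] Γ(M, V) ≃+ Γ(M', W) :=
    (TensorProduct.congr (LinearEquiv.refl A C) eV).toAddEquiv.trans (hlb.equiv.toAddEquiv.trans eW₀)
  have key : ∀ z, (CohBC.bc0 f g f' g' h.w F).app W (hb₀.equiv z) = R z := fun z => by
    induction z using TensorProduct.induction_on with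
    | zero => simp only [map_zero]
    | add a b ha hb => simp only [map_add, ha, hb]
    | tmul c m =>
      rw [IsBaseChange.equiv_tmul, hl₀]
      refine (Scheme.Modules.Hom.app_smul (CohBC.bc0 f g f' g' h.w F) c _).trans ?_
      refine (congrArg (c • ·) (bc0_app_pullSec h.w F hle m)).trans ?_
      show _ = eW₀ (hlb.equiv (c ⊗ₜ[A] eV m))
      rw [IsBaseChange.equiv_tmul, hsm, hl]
      refine congrArg (c • ·) ?_
      show _ = (CohPull.sectH0 F' (f' ⁻¹ᵁ W)).symm (CohPull.pullOn g' (f ⁻¹ᵁ V) (f' ⁻¹ᵁ W) (sectLE h.w hle) F 0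
        (CohPull.sectH0 F (f ⁻¹ᵁ V) m))
      rw [pullOn_sectH0, AddEquiv.symm_apply_apply]
  refine (Function.Bijective.of_comp_iff _ hb₀.equiv.bijective).1 ?_
  rw [show (CohBC.bc0 f g f' g' h.w F).app W ∘ hb₀.equiv = R from funext key]
  exact R.bijective

/-- **Flat base change for direct images.** -/
theorem isIso_bc0_flat [QuasiCompact f] [QuasiSeparated f] [Flat g] (h : IsPullback g' f' f g)
    {F : X.Modules} (hF : Coh.IsQCoh F) : IsIso (CohBC.bc0 f g f' g' h.w F) :=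
  isIso_of_app_affPair (g := g) _ fun _ _ hV hW hle => bijective_bc0_app_flat h hF hV hW hle

end Groth.Agent.FlatBC6
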