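import Groth.Agent.FlatBC6.Theta
import Groth.Agent.FlatBC6.Routes
import Groth.Agent.FlatBC6.Zero

/-!
# The base change map on classes
-/

set_option backward.isDefEq.respectTransparency false
set_option backward.isDefEq.respectTransparency.types false
set_option linter.style.haveILetI false
set_option autoImplicit false
set_option maxRecDepth 4000
set_option maxHeartbeats 1000000

universe u

open CategoryTheory CategoryTheory.Limits AlgebraicGeometry TopologicalSpace Opposite

namespace Groth.Agent.FlatBC6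

open Groth.Agent.QCoh Groth.Agent.CohPullLib Groth.Agent.ExistEasy

variable {X S S' X' : Scheme.{u}} (f : X ⟶ S) (g : S' ⟶ S) (f' : X' ⟶ S') (g' : X' ⟶ X)

theorem godQMap_transferSec (w : g' ≫ f = f' ≫ g) (M : X.Modules) {V : S.Opens} {W : S'.Opens}
    (hle : W ≤ g ⁻¹ᵁ V) (k : ℕ) (z : Γ(godQ M k, f ⁻¹ᵁ V)) :
    (godQMap (g'.resLE (f ⁻¹ᵁ V) (f' ⁻¹ᵁ W) (sectLE w hle))
        (pullOnHom g' (f ⁻¹ᵁ V) (f' ⁻¹ᵁ W) (sectLE w hle) M) k).app ⊤ (transferSec f M V k z) =
      transferSec f' ((Scheme.Modules.pullback g').obj M) W k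
        (secMap g' (godQMap g' ((Scheme.Modules.pullbackPushforwardAdjunction g').unit.app M) k)
          (sectLE w hle) z) := by
  let U := f ⁻¹ᵁ V
  let U' := f' ⁻¹ᵁ W
  let j := g'.resLE U U' (sectLE w hle)
  let N := ((Scheme.Modules.pullback g').obj M).restrict U'.ι
  have hr := (routesEq_pullOnHom g' U U' (sectLE w hle) M).godQMap k U
  have hle1 : j ⁻¹ᵁ (U.ι ⁻¹ᵁ U) ≤ U'.ι ⁻¹ᵁ (g' ⁻¹ᵁ U) := routes_le (Scheme.Hom.resLE_comp_ι g' (sectLE w hle)) U
  have htop : (⊤ : U'.toScheme.Opens) ≤ j ⁻¹ᵁ (U.ι ⁻¹ᵁ U) := by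
    rw [U.ι_preimage_self]; exact le_rfl
  unfold transferSec secMap
  refine (app_rs (godQMap j (pullOnHom g' U U' (sectLE w hle) M) k) U.ι_preimage_self.ge _).trans ?_
  refine (congrArg (rs _ (j.preimage_mono U.ι_preimage_self.ge)) (hr hle1 z)).trans ?_
  refine Eq.trans ?_ (congrArg (rs (godQ N k) U'.ι_preimage_self.ge)
    (app_rs (godQMap U'.ι ((Scheme.Modules.restrictAdjunction U'.ι).unit.app
      ((Scheme.Modules.pullback g').obj M)) k) (sectLE w hle) _).symm)
  exact (rs_rs _ _ _).trans (rs_rs _ _ _).symm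

variable [HasInjectiveResolutions X.Modules] [HasInjectiveResolutions X'.Modules]
  [PreservesFiniteLimits (Scheme.Modules.pullback g')]

omit [HasInjectiveResolutions X.Modules] [HasInjectiveResolutions X'.Modules] [PreservesFiniteLimits (Scheme.Modules.pullback g')] in
theorem beta_app_pullSec (w : g' ≫ f = f' ≫ g) (M : X.Modules) {V : S.Opens} {W : S'.Opens}
    (hle : W ≤ g ⁻¹ᵁ V) (k : ℕ) (z : Γ((Scheme.Modules.pushforward f).obj (godQ M k), V)) :
    (beta f g f' g' w M k).app W (pullSec g ((Scheme.Modules.pushforward f).obj (godQ M k)) hle z) =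
      (show Γ((Scheme.Modules.pushforward f').obj (godQ ((Scheme.Modules.pullback g').obj M) k), W) from
        secMap g' (godQMap g' ((Scheme.Modules.pullbackPushforwardAdjunction g').unit.app M) k)
          (sectLE w hle) z) := by
  refine (adjunct_app_pullSec g (betaAdj f g f' g' w M k) hle z).trans ?_
  exact map_map _ _ _

omit [HasInjectiveResolutions X.Modules] [HasInjectiveResolutions X'.Modules] [PreservesFiniteLimits (Scheme.Modules.pullback g')] in
/-- The pullback of classes is the base change map on the Godement cokernels. -/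
theorem pullOn_theta (w : g' ≫ f = f' ≫ g) (M : X.Modules) {V : S.Opens} {W : S'.Opens}
    (hle : W ≤ g ⁻¹ᵁ V) (k : ℕ) (z : Γ((Scheme.Modules.pushforward f).obj (godQ M k), V)) :
    CohPull.pullOn g' (f ⁻¹ᵁ V) (f' ⁻¹ᵁ W) (sectLE w hle) M k (theta f M V k z) =
      theta f' ((Scheme.Modules.pullback g').obj M) W k
        ((beta f g f' g' w M k).app W (pullSec g ((Scheme.Modules.pushforward f).obj (godQ M k)) hle z)) := by
  rw [beta_app_pullSec]
  exact (pullOn_cls g' (f ⁻¹ᵁ V) (f' ⁻¹ᵁ W) (sectLE w hle) M k (transferSec f M V k z)).trans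
    (congrArg (cls _ k) (godQMap_transferSec f g f' g' w M hle k z))

end Groth.Agent.FlatBC6
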