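import Groth.Agent.QCoh.RpushGod
import Mathlib.CategoryTheory.Abelian.RightDerived

/-!
# Maps from the Godement resolution to complexes of injective modules
-/

set_option backward.isDefEq.respectTransparency false
set_option backward.isDefEq.respectTransparency.types false
set_option linter.style.haveILetI false
set_option autoImplicit false

universe u v' u₂

open CategoryTheory CategoryTheory.Limits AlgebraicGeometry TopologicalSpace Opposite

namespace Groth.Agent.FlatBC6

open Groth.Agent.QCoh

variable {X : Scheme.{u}}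

instance mono_toGod (N : X.Modules) : Mono (toGod N) := (godSES_shortExact N 0).mono_f

instance epi_godπ (M : X.Modules) (k : ℕ) : Epi (godπ M k) := inferInstanceAs (Epi (cokernel.π _))

/-- A map from the Godement resolution of `M` to a complex, given through the cokernels. -/
structure GodLift (M : X.Modules) (L : CochainComplex X.Modules ℕ) where
  /-- the maps on the cokernels -/
  τ : ∀ k, godQ M k ⟶ L.X k
  /-- the maps on the Godement terms -/
  α : ∀ k, God (godQ M k) ⟶ L.X k
  τ_d : ∀ k, τ k ≫ L.d k (k + 1) = 0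
  toGod_α : ∀ k, toGod (godQ M k) ≫ α k = τ k
  π_τ : ∀ k, godπ M k ≫ τ (k + 1) = α k ≫ L.d k (k + 1)

variable {M : X.Modules} {L : CochainComplex X.Modules ℕ}

/-- The inductive construction. -/
noncomputable def liftAux (hL : ∀ n, Injective (L.X n)) (η : M ⟶ L.X 0) (hη : η ≫ L.d 0 1 = 0) :
    ∀ k, {t : godQ M k ⟶ L.X k // t ≫ L.d k (k + 1) = 0}
  | 0 => ⟨η, hη⟩
  | k + 1 =>
    haveI := hL k
    ⟨cokernel.desc (toGod (godQ M k))
      (Injective.factorThru (liftAux hL η hη k).1 (toGod (godQ M k)) ≫ L.d k (k + 1))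
      (by rw [← Category.assoc, Injective.comp_factorThru, (liftAux hL η hη k).2]),
    (cancel_epi (godπ M k)).1 (by
      show cokernel.π (toGod (godQ M k)) ≫ _ ≫ _ = _
      rw [← Category.assoc, cokernel.π_desc, Category.assoc, L.d_comp_d, comp_zero, comp_zero])⟩

/-- The lift of an augmentation to a complex of injectives. -/
noncomputable def GodLift.mk' (hL : ∀ n, Injective (L.X n)) (η : M ⟶ L.X 0) (hη : η ≫ L.d 0 1 = 0) :
    GodLift M L where
  τ k := (liftAux hL η hη k).1
  α k := haveI := hL k; Injective.factorThru (liftAux hL η hη k).1 (toGod (godQ M k))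
  τ_d k := (liftAux hL η hη k).2
  toGod_α k := haveI := hL k; Injective.comp_factorThru _ _
  π_τ _ := cokernel.π_desc _ _ _

theorem GodLift.mk'_zero (hL : ∀ n, Injective (L.X n)) (η : M ⟶ L.X 0) (hη : η ≫ L.d 0 1 = 0) :
    (GodLift.mk' hL η hη).τ 0 = η := rfl

/-- **Lifts are unique up to boundaries.** -/
theorem GodLift.exists_sub_eq (hL : ∀ n, Injective (L.X n)) (T T' : GodLift M L) (h : T.τ 0 = T'.τ 0) :
    ∀ k, ∃ e : godQ M (k + 1) ⟶ L.X k, T.τ (k + 1) - T'.τ (k + 1) = e ≫ L.d k (k + 1) := by
  intro k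
  induction k with
  | zero =>
    let e : godQ M (0 + 1) ⟶ L.X 0 := cokernel.desc (toGod (godQ M 0)) (T.α 0 - T'.α 0)
      (by rw [Preadditive.comp_sub, T.toGod_α, T'.toGod_α, h, sub_self])
    have he : godπ M 0 ≫ e = T.α 0 - T'.α 0 := cokernel.π_desc _ _ _
    exact ⟨e, (cancel_epi (godπ M 0)).1 (by
      rw [Preadditive.comp_sub, T.π_τ, T'.π_τ, reassoc_of% he, Preadditive.sub_comp])⟩
  | succ k ih =>
    obtain ⟨e, he⟩ := ih
    haveI := hL k
    let b := Injective.factorThru e (toGod (godQ M (k + 1)))
    let e' : godQ M (k + 1 + 1) ⟶ L.X (k + 1) :=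
      cokernel.desc (toGod (godQ M (k + 1))) (T.α (k + 1) - T'.α (k + 1) - b ≫ L.d k (k + 1))
      (by rw [Preadditive.comp_sub, Preadditive.comp_sub, T.toGod_α, T'.toGod_α, ← Category.assoc,
        Injective.comp_factorThru, he, sub_self])
    have he' : godπ M (k + 1) ≫ e' = T.α (k + 1) - T'.α (k + 1) - b ≫ L.d k (k + 1) := cokernel.π_desc _ _ _
    exact ⟨e', (cancel_epi (godπ M (k + 1))).1 (by
      rw [Preadditive.comp_sub, T.π_τ, T'.π_τ, reassoc_of% he', Preadditive.sub_comp, Preadditive.sub_comp,
        Category.assoc, L.d_comp_d, comp_zero, sub_zero])⟩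

/-- Composition with a map of complexes. -/
noncomputable def GodLift.comp (T : GodLift M L) {L' : CochainComplex X.Modules ℕ} (ψ : L ⟶ L') : GodLift M L' where
  τ k := T.τ k ≫ ψ.f k
  α k := T.α k ≫ ψ.f k
  τ_d k := by rw [Category.assoc, ψ.comm, ← Category.assoc, T.τ_d, zero_comp]
  toGod_α k := by rw [← Category.assoc, T.toGod_α]
  π_τ k := by rw [← Category.assoc, T.π_τ, Category.assoc, Category.assoc, ψ.comm]

/-- Composition with the maps of Godement resolutions under a morphism. -/
noncomputable def GodLift.push {X' : Scheme.{u}} (φ : X' ⟶ X) {M' : X'.Modules}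
    (η : M ⟶ (Scheme.Modules.pushforward φ).obj M') {L' : CochainComplex X'.Modules ℕ} (T : GodLift M' L') :
    GodLift M (((Scheme.Modules.pushforward φ).mapHomologicalComplex _).obj L') where
  τ k := godQMap φ η k ≫ (Scheme.Modules.pushforward φ).map (T.τ k)
  α k := godMap φ (godQMap φ η k) ≫ (Scheme.Modules.pushforward φ).map (T.α k)
  τ_d k := by
    rw [Functor.mapHomologicalComplex_obj_d, Category.assoc, ← Functor.map_comp, T.τ_d, Functor.map_zero,
      comp_zero]
  toGod_α k := by
    rw [← Category.assoc, toGod_godMap, Category.assoc, ← Functor.map_comp, T.toGod_α]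
  π_τ k := by
    rw [Functor.mapHomologicalComplex_obj_d, ← Category.assoc, godπ_godQMap, Category.assoc, Category.assoc,
      ← Functor.map_comp, ← Functor.map_comp, T.π_τ]

section Class

variable {D : Type u₂} [Category.{v'} D] [Abelian D] (F : X.Modules ⥤ D) [F.Additive]

theorem map_τ_d (T : GodLift M L) (k : ℕ) :
    F.map (T.τ k) ≫ ((F.mapHomologicalComplex _).obj L).d k (k + 1) = 0 :=
  (F.map_comp _ _).symm.trans ((congrArg F.map (T.τ_d k)).trans (F.map_zero _ _))

/-- The cycles of the sections of a Godement cokernel. -/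
noncomputable def GodLift.cyc (T : GodLift M L) (k : ℕ) :
    F.obj (godQ M k) ⟶ ((F.mapHomologicalComplex _).obj L).cycles k :=
  HomologicalComplex.liftCycles _ (F.map (T.τ k)) (k + 1) (CochainComplex.next ℕ k) (map_τ_d F T k)

theorem GodLift.cyc_i (T : GodLift M L) (k : ℕ) :
    T.cyc F k ≫ ((F.mapHomologicalComplex _).obj L).iCycles k = F.map (T.τ k) :=
  HomologicalComplex.liftCycles_i _ _ _ _ _

/-- The class. -/
noncomputable def GodLift.cl (T : GodLift M L) (k : ℕ) :
    F.obj (godQ M k) ⟶ ((F.mapHomologicalComplex _).obj L).homology k :=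
  T.cyc F k ≫ ((F.mapHomologicalComplex _).obj L).homologyπ k

theorem GodLift.map_π_cyc (T : GodLift M L) (k : ℕ) :
    F.map (godπ M k) ≫ T.cyc F (k + 1) =
      F.map (T.α k) ≫ ((F.mapHomologicalComplex _).obj L).toCycles k (k + 1) := by
  rw [← cancel_mono (((F.mapHomologicalComplex _).obj L).iCycles (k + 1)), Category.assoc, Category.assoc,
    T.cyc_i F, HomologicalComplex.toCycles_i, Functor.mapHomologicalComplex_obj_d, ← F.map_comp, ← F.map_comp, T.π_τ]

theorem GodLift.map_π_cl (T : GodLift M L) (k : ℕ) : F.map (godπ M k) ≫ T.cl F (k + 1) = 0 := by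
  rw [GodLift.cl, ← Category.assoc, T.map_π_cyc F, Category.assoc, HomologicalComplex.toCycles_comp_homologyπ,
    comp_zero]

/-- The class does not depend on the lift. -/
theorem GodLift.cl_eq (hL : ∀ n, Injective (L.X n)) (T T' : GodLift M L) (h : T.τ 0 = T'.τ 0) :
    ∀ k, T.cl F k = T'.cl F k := by
  intro k
  cases k with
  | zero =>
    have : T.cyc F 0 = T'.cyc F 0 := by
      rw [← cancel_mono (((F.mapHomologicalComplex _).obj L).iCycles 0), T.cyc_i F, T'.cyc_i F, h]
    rw [GodLift.cl, GodLift.cl, this]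
  | succ k =>
    obtain ⟨e, he⟩ := GodLift.exists_sub_eq hL T T' h k
    have : T.cyc F (k + 1) = T'.cyc F (k + 1) + F.map e ≫ ((F.mapHomologicalComplex _).obj L).toCycles k (k + 1) := by
      rw [← cancel_mono (((F.mapHomologicalComplex _).obj L).iCycles (k + 1)), Preadditive.add_comp, Category.assoc,
        T.cyc_i F, T'.cyc_i F, HomologicalComplex.toCycles_i, Functor.mapHomologicalComplex_obj_d, ← F.map_comp,
        ← he, ← F.map_add, add_sub_cancel]
    rw [GodLift.cl, GodLift.cl, this, Preadditive.add_comp, Category.assoc,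
      HomologicalComplex.toCycles_comp_homologyπ, comp_zero, add_zero]

theorem GodLift.cl_comp (T : GodLift M L) {L' : CochainComplex X.Modules ℕ} (ψ : L ⟶ L') (k : ℕ) :
    (T.comp ψ).cl F k = T.cl F k ≫ HomologicalComplex.homologyMap ((F.mapHomologicalComplex _).map ψ) k := by
  rw [GodLift.cl, GodLift.cl, Category.assoc, HomologicalComplex.homologyπ_naturality, ← Category.assoc]
  congr 1
  rw [← cancel_mono (((F.mapHomologicalComplex _).obj L').iCycles k), GodLift.cyc_i, Category.assoc,
    HomologicalComplex.cyclesMap_i, ← Category.assoc, GodLift.cyc_i, Functor.mapHomologicalComplex_map_f]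
  exact F.map_comp _ _

theorem GodLift.cl_natTrans {F' : X.Modules ⥤ D} [F'.Additive] (e : F ⟶ F') (T : GodLift M L) (k : ℕ) :
    T.cl F k ≫ HomologicalComplex.homologyMap ((NatTrans.mapHomologicalComplex e _).app L) k =
      e.app (godQ M k) ≫ T.cl F' k := by
  rw [GodLift.cl, GodLift.cl, Category.assoc, HomologicalComplex.homologyπ_naturality, ← Category.assoc,
    ← Category.assoc]
  congr 1
  rw [← cancel_mono (((F'.mapHomologicalComplex _).obj L).iCycles k), Category.assoc, Category.assoc,
    HomologicalComplex.cyclesMap_i, GodLift.cyc_i, ← Category.assoc, GodLift.cyc_i]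
  exact e.naturality _

end Class

end Groth.Agent.FlatBC6
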