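import Groth.Agent.FlatBC6.Theta
import Groth.Agent.FlatBC6.Routes
import Groth.Agent.CohPullLib.ResPab

/-!
# Classes and restriction
-/

set_option backward.isDefEq.respectTransparency false
set_option backward.isDefEq.respectTransparency.types false
set_option linter.style.haveILetI false
set_option autoImplicit false
set_option maxRecDepth 4000
set_option maxHeartbeats 1000000

universe u

open CategoryTheory CategoryTheory.Limits AlgebraicGeometry TopologicalSpace Opposite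

namespace Groth.Agent.FlatBC6

open Groth.Agent.QCoh Groth.Agent.CohPullLib Groth.Agent.ExistEasy

variable {X S S' X' : Scheme.{u}}

theorem godQMap_pushId (M : X.Modules) : ∀ k,
    godQMap (𝟙 X) ((Scheme.Modules.pushforwardId X).inv.app M) k =
      (Scheme.Modules.pushforwardId X).inv.app (godQ M k)
  | 0 => rfl
  | k + 1 => by
    haveI : Epi (godπ M k) := inferInstanceAs (Epi (cokernel.π _))
    rw [← cancel_epi (godπ M k), godπ_godQMap, godQMap_pushId M k]
    have hm : godMap (𝟙 X) ((Scheme.Modules.pushforwardId X).inv.app (godQ M k)) =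
        (Scheme.Modules.pushforwardId X).inv.app (God (godQ M k)) := by
      refine Scheme.Modules.hom_ext _ _ fun U => AddCommGrpCat.ext fun s => funext fun y => ?_
      show stkMap (𝟙 X) ((Scheme.Modules.pushforwardId X).inv.app (godQ M k)) y.1 (godVal s y.1 y.2) = godVal s y.1 y.2
      obtain ⟨V, hV, t, ht⟩ := exists_germM (godQ M k) (godVal s y.1 y.2)
      rw [← ht]
      exact stkMap_germM (𝟙 X) _ y.1 V hV t
    rw [hm]
    exact ((Scheme.Modules.pushforwardId X).inv.naturality (godπ M k)).symm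

/-- Classes are natural for maps to direct images over opens. -/
theorem pab_theta_gen (f : X ⟶ S) (f' : X' ⟶ S') (g' : X' ⟶ X) {V : S.Opens} {W : S'.Opens}
    (hle : f' ⁻¹ᵁ W ≤ g' ⁻¹ᵁ (f ⁻¹ᵁ V)) {M : X.Modules} {N : X'.Modules}
    (η' : M ⟶ (Scheme.Modules.pushforward g').obj N)
    (η : M.restrict (f ⁻¹ᵁ V).ι ⟶ (Scheme.Modules.pushforward (g'.resLE (f ⁻¹ᵁ V) (f' ⁻¹ᵁ W) hle)).obj
      (N.restrict (f' ⁻¹ᵁ W).ι))
    (hr : RoutesEq (a := g'.resLE (f ⁻¹ᵁ V) (f' ⁻¹ᵁ W) hle) (b := (f ⁻¹ᵁ V).ι) (a' := (f' ⁻¹ᵁ W).ι) (b' := g')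
      (Scheme.Hom.resLE_comp_ι g' hle)
      ((Scheme.Modules.restrictAdjunction (f ⁻¹ᵁ V).ι).unit.app M) η η'
      ((Scheme.Modules.restrictAdjunction (f' ⁻¹ᵁ W).ι).unit.app N))
    (k : ℕ) (z : Γ(godQ M k, f ⁻¹ᵁ V)) :
    pab (g'.resLE (f ⁻¹ᵁ V) (f' ⁻¹ᵁ W) hle).base (etaAb _ η) k (theta f M V k z) =
      theta f' N W k (secMap g' (godQMap g' η' k) hle z) := by
  refine (pab_cls _ η k (transferSec f M V k z)).trans (congrArg (cls _ k) ?_)
  let U := f ⁻¹ᵁ V
  let U' := f' ⁻¹ᵁ W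
  let j := g'.resLE U U' hle
  unfold transferSec secMap
  refine (app_rs (godQMap j η k) U.ι_preimage_self.ge _).trans ?_
  refine (congrArg (rs _ (j.preimage_mono U.ι_preimage_self.ge))
    (hr.godQMap k U (routes_le (Scheme.Hom.resLE_comp_ι g' hle) U) z)).trans ?_
  refine Eq.trans ?_ (congrArg (rs (godQ (N.restrict U'.ι) k) U'.ι_preimage_self.ge)
    (app_rs (godQMap U'.ι ((Scheme.Modules.restrictAdjunction U'.ι).unit.app N) k) hle _).symm)
  exact (rs_rs _ _ _).trans (rs_rs _ _ _).symm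

/-- Restriction between opens, as a map to a direct image. -/
noncomputable def resHom (M : X.Modules) {U U' : X.Opens} (h : U' ≤ U) : M.restrict U.ι ⟶
    (Scheme.Modules.pushforward ((𝟙 X : X ⟶ X).resLE U U' (by rwa [Scheme.Hom.id_preimage]))).obj
      (M.restrict U'.ι) :=
  pullOnHom (𝟙 X) U U' (by rwa [Scheme.Hom.id_preimage]) M ≫
    (Scheme.Modules.pushforward ((𝟙 X : X ⟶ X).resLE U U' (by rwa [Scheme.Hom.id_preimage]))).map
      ((Scheme.Modules.restrictFunctor U'.ι).map ((Scheme.Modules.pullbackId X).hom.app M))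

theorem RoutesEq.postcomp {Y Y' Z : Scheme.{u}} {a : Z ⟶ Y} {b : Y ⟶ X} {a' : Z ⟶ Y'} {b' : Y' ⟶ X}
    {M : X.Modules} {P : Y.Modules} {P' P'' : Y'.Modules} {N N' : Z.Modules} {e : a ≫ b = a' ≫ b'}
    {η : M ⟶ (Scheme.Modules.pushforward b).obj P} {θ : P ⟶ (Scheme.Modules.pushforward a).obj N}
    {η' : M ⟶ (Scheme.Modules.pushforward b').obj P'} {θ' : P' ⟶ (Scheme.Modules.pushforward a').obj N}
    (h : RoutesEq e η θ η' θ') (φ : P' ⟶ P'') (ψ : N ⟶ N') (θ'' : P'' ⟶ (Scheme.Modules.pushforward a').obj N')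
    (hθ : θ' ≫ (Scheme.Modules.pushforward a').map ψ = φ ≫ θ'') :
    RoutesEq e η (θ ≫ (Scheme.Modules.pushforward a).map ψ) (η' ≫ (Scheme.Modules.pushforward b').map φ) θ'' := by
  intro U hle s
  refine (congrArg (ψ.app (a ⁻¹ᵁ (b ⁻¹ᵁ U))) (h U hle s)).trans ((app_rs ψ hle _).trans (congrArg (rs N' hle) ?_))
  exact congr(($hθ).app (b' ⁻¹ᵁ U) (η'.app U s))

theorem unit_pullbackId (M : X.Modules) :
    (Scheme.Modules.pullbackPushforwardAdjunction (𝟙 X)).unit.app M ≫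
      (Scheme.Modules.pushforward (𝟙 X)).map ((Scheme.Modules.pullbackId X).hom.app M) =
    (Scheme.Modules.pushforwardId X).inv.app M := by
  refine Scheme.Modules.hom_ext _ _ fun O => AddCommGrpCat.ext fun s => ?_
  refine Eq.trans ?_ (QCoh.map_id' (M := M) (homOfLE (le_refl O)) s)
  refine Eq.trans ?_ (pullbackId_pullSec M (le_refl O) s)
  refine congrArg (((Scheme.Modules.pullbackId X).hom.app M).app O) ?_
  exact (QCoh.map_id' (M := (Scheme.Modules.pullback (𝟙 X)).obj M) _ _).symm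

/-- **Classes commute with restriction.** -/
theorem pab_res_theta (f : X ⟶ S) (M : X.Modules) {V V' : S.Opens} (h : V' ≤ V) (k : ℕ)
    (z : Γ(godQ M k, f ⁻¹ᵁ V)) :
    pab ((𝟙 X : X ⟶ X).resLE (f ⁻¹ᵁ V) (f ⁻¹ᵁ V') (by rw [Scheme.Hom.id_preimage]; exact f.preimage_mono h)).base
        (etaAb _ (resHom M (f.preimage_mono h))) k (theta f M V k z) =
      theta f M V' k (rs (godQ M k) (f.preimage_mono h) z) := by
  have hle : f ⁻¹ᵁ V' ≤ (𝟙 X : X ⟶ X) ⁻¹ᵁ (f ⁻¹ᵁ V) := by rw [Scheme.Hom.id_preimage]; exact f.preimage_mono h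
  refine (pab_theta_gen f f (𝟙 X) hle ((Scheme.Modules.pushforwardId X).inv.app M) (resHom M (f.preimage_mono h))
    ?_ k z).trans (congrArg (theta f M V' k) ?_)
  · rw [← unit_pullbackId M]
    exact (routesEq_pullOnHom (𝟙 X) (f ⁻¹ᵁ V) (f ⁻¹ᵁ V') hle M).postcomp ((Scheme.Modules.pullbackId X).hom.app M)
      _ _ ((Scheme.Modules.restrictAdjunction (f ⁻¹ᵁ V').ι).unit.naturality _).symm
  · unfold secMap
    rw [godQMap_pushId]
    rfl

end Groth.Agent.FlatBC6
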