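import Groth.Agent.FlatBC6.Desc
import Groth.Prelude.Def_CohBC2

/-!
# The classes in the higher direct images and the base change maps
-/

set_option backward.isDefEq.respectTransparency false
set_option backward.isDefEq.respectTransparency.types false
set_option linter.style.haveILetI false
set_option autoImplicit false
set_option maxHeartbeats 1000000

universe u v' u₂ v₃ u₃

open CategoryTheory CategoryTheory.Limits AlgebraicGeometry TopologicalSpace Opposite

namespace Groth.Agent.FlatBC6

open Groth.Agent.QCoh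

variable {X : Scheme.{u}}

section Res

variable [HasInjectiveResolutions X.Modules] (M : X.Modules)

/-- The chosen lift to the injective resolution. -/
noncomputable def resLift : GodLift M (injectiveResolution M).cocomplex :=
  GodLift.mk' (fun n => (injectiveResolution M).injective n) ((injectiveResolution M).ι.f 0)
    (injectiveResolution M).ι_f_zero_comp_complex_d

theorem resLift_zero : (resLift M).τ 0 = (injectiveResolution M).ι.f 0 := rfl

theorem isIso_resLift_toCyc : IsIso ((resLift M).toCyc 0) :=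
  (CochainComplex.isIso_liftCycles_iff (φ := (injectiveResolution M).ι.f 0)
    (hφ := (injectiveResolution M).ι_f_zero_comp_complex_d)).2
      ⟨(injectiveResolution M).exact₀, inferInstance⟩

variable {Y : Scheme.{u}} (f : X ⟶ Y)

/-- The class of a section of a Godement cokernel in the higher direct image. -/
noncomputable def rcl (k : ℕ) : (Scheme.Modules.pushforward f).obj (godQ M k) ⟶ (Coh.Rpush f k).obj M :=
  (resLift M).cl (Scheme.Modules.pushforward f) k ≫
    ((injectiveResolution M).isoRightDerivedObj (Scheme.Modules.pushforward f) k).inv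

theorem map_π_rcl (k : ℕ) : (Scheme.Modules.pushforward f).map (godπ M k) ≫ rcl M f (k + 1) = 0 := by
  rw [rcl, ← Category.assoc, GodLift.map_π_cl, zero_comp]

/-- Higher direct images are the cokernels of the Godement differentials, through the classes. -/
theorem isIso_desc_rcl (k : ℕ) :
    IsIso (cokernel.desc ((Scheme.Modules.pushforward f).map (godπ M k)) (rcl M f (k + 1)) (map_π_rcl M f k)) := by
  haveI := isIso_desc (fun n => (injectiveResolution M).injective n)
    (fun n => (injectiveResolution M).cocomplex_exactAt_succ n) (resLift M) (isIso_resLift_toCyc M) f k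
  have e : cokernel.desc ((Scheme.Modules.pushforward f).map (godπ M k)) (rcl M f (k + 1)) (map_π_rcl M f k) =
      cokernel.desc _ ((resLift M).cl (Scheme.Modules.pushforward f) (k + 1))
        ((resLift M).map_π_cl (Scheme.Modules.pushforward f) k) ≫
      ((injectiveResolution M).isoRightDerivedObj (Scheme.Modules.pushforward f) (k + 1)).inv := by
    refine (cancel_epi (cokernel.π ((Scheme.Modules.pushforward f).map (godπ M k)))).1 ?_
    exact (cokernel.π_desc _ _ _).trans (cokernel.π_desc_assoc _ _ _ _).symm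
  rw [e]
  infer_instance

theorem rcl_zero : rcl M f 0 = (Scheme.Modules.pushforward f).toRightDerivedZero.app M := by
  rw [(injectiveResolution M).toRightDerivedZero_eq]
  exact Category.assoc _ _ _

theorem isIso_rcl_zero : IsIso (rcl M f 0) := by
  haveI := QCoh.preservesFiniteLimits_push f
  rw [rcl_zero]
  infer_instance

end Res

section Formal

variable {M : X.Modules} {L : CochainComplex X.Modules ℕ}
  {D : Type u₂} [Category.{v'} D] [Abelian D] {E : Type u₃} [Category.{v₃} E] [Abelian E]

theorem cl_homologyComparison (Φ : X.Modules ⥤ D) [Φ.Additive] (Ψ : D ⥤ E) [Ψ.Additive] [PreservesFiniteLimits Ψ]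
    (T : GodLift M L) (k : ℕ) :
    T.cl (Φ ⋙ Ψ) k ≫ RDer.homologyComparison Ψ ((Φ.mapHomologicalComplex _).obj L) k = Ψ.map (T.cl Φ k) := by
  refine (Category.assoc _ _ _).trans ?_
  refine (congrArg (T.cyc (Φ ⋙ Ψ) k ≫ ·) (RDer.homologyπ_homologyComparison Ψ ((Φ.mapHomologicalComplex (ComplexShape.up ℕ)).obj L) k)).trans ?_
  rw [GodLift.cl, Ψ.map_comp, ← Category.assoc]
  refine congrArg (· ≫ Ψ.map (((Φ.mapHomologicalComplex _).obj L).homologyπ k)) ?_
  rw [← cancel_mono (Ψ.map (((Φ.mapHomologicalComplex _).obj L).iCycles k))]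
  refine (Category.assoc _ _ _).trans ?_
  refine (congrArg (T.cyc (Φ ⋙ Ψ) k ≫ ·) (RDer.cyclesComparison_i Ψ ((Φ.mapHomologicalComplex (ComplexShape.up ℕ)).obj L) k)).trans ?_
  exact (T.cyc_i (Φ ⋙ Ψ) k).trans (Eq.trans (congrArg Ψ.map (T.cyc_i Φ k).symm) (Ψ.map_comp _ _))

theorem cl_push {X' : Scheme.{u}} (φ : X' ⟶ X) {M' : X'.Modules}
    (η : M ⟶ (Scheme.Modules.pushforward φ).obj M') {L' : CochainComplex X'.Modules ℕ} (T : GodLift M' L')
    (F : X.Modules ⥤ D) [F.Additive] (k : ℕ) :
    (T.push φ η).cl F k = F.map (godQMap φ η k) ≫ T.cl (Scheme.Modules.pushforward φ ⋙ F) k := by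
  refine Eq.trans ?_ (Category.assoc _ _ _)
  refine congrArg (· ≫ _) ((cancel_mono (((F.mapHomologicalComplex _).obj
    (((Scheme.Modules.pushforward φ).mapHomologicalComplex _).obj L')).iCycles k)).1 ?_)
  refine ((T.push φ η).cyc_i F k).trans (Eq.trans (F.map_comp _ _) ?_)
  refine Eq.trans ?_ (Category.assoc _ _ _).symm
  exact congrArg (F.map (godQMap φ η k) ≫ ·) (T.cyc_i (Scheme.Modules.pushforward φ ⋙ F) k).symm

end Formal

section Square

variable {S S' X' : Scheme.{u}} (f : X ⟶ S) (g : S' ⟶ S) (f' : X' ⟶ S') (g' : X' ⟶ X) (w : g' ≫ f = f' ≫ g)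
  [HasInjectiveResolutions X.Modules] [HasInjectiveResolutions X'.Modules]
  [PreservesFiniteLimits (Scheme.Modules.pullback g')] (M : X.Modules)

/-- The base change map on the Godement cokernels, in adjoint form. -/
noncomputable def betaAdj (k : ℕ) : (Scheme.Modules.pushforward f).obj (godQ M k) ⟶
    (Scheme.Modules.pushforward g).obj ((Scheme.Modules.pushforward f').obj
      (godQ ((Scheme.Modules.pullback g').obj M) k)) :=
  (Scheme.Modules.pushforward f).map
      (godQMap g' ((Scheme.Modules.pullbackPushforwardAdjunction g').unit.app M) k) ≫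
    (Scheme.Modules.pushforwardComp g' f ≪≫ Scheme.Modules.pushforwardCongr w ≪≫
      (Scheme.Modules.pushforwardComp f' g).symm).hom.app _

theorem rcl_bcQAdj (k : ℕ) : rcl M f k ≫ CohBC.bcQAdj f g f' g' w k M =
    betaAdj f g f' g' w M k ≫ (Scheme.Modules.pushforward g).map (rcl ((Scheme.Modules.pullback g').obj M) f' k) := by
  haveI := (Scheme.Modules.pullbackPushforwardAdjunction g).isRightAdjoint
  let F := Scheme.Modules.pushforward f
  let P := Scheme.Modules.pushforward g'
  let G := (Scheme.Modules.pullback g').obj M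
  let U := (Scheme.Modules.pullbackPushforwardAdjunction g').unit.app M
  let I := injectiveResolution M
  let J := injectiveResolution G
  let J₁ := injectiveResolution (P.obj G)
  let T := resLift M
  let T' := resLift G
  let ψ₁ : I.cocomplex ⟶ J₁.cocomplex := InjectiveResolution.desc U J₁ I
  let ψ₂ : J₁.cocomplex ⟶ (P.mapHomologicalComplex _).obj J.cocomplex :=
    RDer.descToInjectives (𝟙 (P.obj G)) J₁.cocomplex J₁.ι ((P.mapHomologicalComplex _).obj J.cocomplex)
      (RDer.mapAug P J.ι)
  let e := Scheme.Modules.pushforwardComp g' f ≪≫ Scheme.Modules.pushforwardCongr w ≪≫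
    (Scheme.Modules.pushforwardComp f' g).symm
  have hψ₁ : I.ι.f 0 ≫ ψ₁.f 0 = U ≫ J₁.ι.f 0 := InjectiveResolution.desc_commutes_zero U J₁ I
  have h1 : rcl M f k ≫ (Coh.Rpush f k).map U =
      (T.comp ψ₁).cl F k ≫ (J₁.isoRightDerivedObj F k).inv := by
    rw [GodLift.cl_comp]
    refine (Category.assoc _ _ _).trans (Eq.trans ?_ (Category.assoc _ _ _).symm)
    exact congrArg (T.cl F k ≫ ·) (InjectiveResolution.isoRightDerivedObj_inv_naturality U I J₁ ψ₁ hψ₁ F k)
  have h2 : ((T.comp ψ₁).cl F k ≫ (J₁.isoRightDerivedObj F k).inv) ≫ RDer.edgeIn P F k G =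
      F.map (godQMap g' U k) ≫ T'.cl (P ⋙ F) k ≫ (J.isoRightDerivedObj (P ⋙ F) k).inv := by
    refine (Category.assoc _ _ _).trans ?_
    dsimp only [RDer.edgeIn]
    rw [Iso.inv_hom_id_assoc]
    refine (Category.assoc _ _ _).symm.trans (Eq.trans ?_ (Category.assoc _ _ _))
    refine congrArg (· ≫ (J.isoRightDerivedObj (P ⋙ F) k).inv) ?_
    refine ((T.comp ψ₁).cl_comp F ψ₂ k).symm.trans ?_
    refine Eq.trans ?_ (cl_push g' U T' F k)
    refine GodLift.cl_eq F (fun n => inferInstanceAs (Injective (((P.mapHomologicalComplex _).obj J.cocomplex).X n)))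
      _ _ ?_ k
    show (I.ι.f 0 ≫ ψ₁.f 0) ≫ ψ₂.f 0 = U ≫ P.map (J.ι.f 0)
    rw [hψ₁, Category.assoc]
    refine congrArg (U ≫ ·) ?_
    refine (RDer.ι_descToInjectives_f_zero (𝟙 (P.obj G)) J₁.cocomplex J₁.ι _ (RDer.mapAug P J.ι)).trans ?_
    simp [RDer.mapAug, HomologicalComplex.singleMapHomologicalComplex_inv_app_self]
  have h3 : (T'.cl (P ⋙ F) k ≫ (J.isoRightDerivedObj (P ⋙ F) k).inv) ≫
      (CohBC.RpushSquareIso f g f' g' w k).hom.app G =
      e.hom.app (godQ G k) ≫ T'.cl (Scheme.Modules.pushforward f' ⋙ Scheme.Modules.pushforward g) k ≫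
        (J.isoRightDerivedObj (Scheme.Modules.pushforward f' ⋙ Scheme.Modules.pushforward g) k).inv := by
    refine (Category.assoc _ _ _).trans ?_
    refine (congrArg (fun t => T'.cl (P ⋙ F) k ≫ (J.isoRightDerivedObj (P ⋙ F) k).inv ≫ t)
      (InjectiveResolution.rightDerived_app_eq e.hom J k)).trans ?_
    refine (congrArg (T'.cl (P ⋙ F) k ≫ ·) (Iso.inv_hom_id_assoc _ _)).trans ?_
    refine (Category.assoc _ _ _).symm.trans (Eq.trans ?_ (Category.assoc _ _ _))
    exact congrArg (· ≫ _) (T'.cl_natTrans (P ⋙ F) e.hom k)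
  have h4 : (T'.cl (Scheme.Modules.pushforward f' ⋙ Scheme.Modules.pushforward g) k ≫
        (J.isoRightDerivedObj (Scheme.Modules.pushforward f' ⋙ Scheme.Modules.pushforward g) k).inv) ≫
      RDer.edgeOut (Scheme.Modules.pushforward f') (Scheme.Modules.pushforward g) k G =
      (Scheme.Modules.pushforward g).map (rcl G f' k) := by
    refine (Category.assoc _ _ _).trans ?_
    dsimp only [RDer.edgeOut]
    rw [Iso.inv_hom_id_assoc, ← Category.assoc]
    exact (congrArg (· ≫ _) (cl_homologyComparison (Scheme.Modules.pushforward f') (Scheme.Modules.pushforward g) T' k)).trans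
      ((Scheme.Modules.pushforward g).map_comp _ _).symm
  unfold CohBC.bcQAdj betaAdj
  refine Eq.trans ?_ (Category.assoc _ _ _).symm
  refine Eq.trans ?_ (congrArg (fun t => F.map (godQMap g' U k) ≫ e.hom.app (godQ G k) ≫ t) h4)
  refine (Category.assoc _ _ _).symm.trans ?_
  refine (congrArg (· ≫ _) h1).trans ?_
  refine (Category.assoc _ _ _).symm.trans ?_
  refine (congrArg (· ≫ _) h2).trans ?_
  refine (Category.assoc _ _ _).trans ?_
  refine congrArg (F.map (godQMap g' U k) ≫ ·) ?_
  refine (Category.assoc _ _ _).symm.trans ?_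
  refine (congrArg (· ≫ _) h3).trans ?_
  exact Category.assoc _ _ _

/-- The base change map on the Godement cokernels. -/
noncomputable def beta (k : ℕ) : (Scheme.Modules.pullback g).obj ((Scheme.Modules.pushforward f).obj (godQ M k)) ⟶
    (Scheme.Modules.pushforward f').obj (godQ ((Scheme.Modules.pullback g').obj M) k) :=
  ((Scheme.Modules.pullbackPushforwardAdjunction g).homEquiv _ _).symm (betaAdj f g f' g' w M k)

theorem rcl_bcQ (k : ℕ) : (Scheme.Modules.pullback g).map (rcl M f k) ≫ CohBC.bcQ f g f' g' w k M =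
    beta f g f' g' w M k ≫ rcl ((Scheme.Modules.pullback g').obj M) f' k := by
  rw [CohBC.bcQ, beta, ← Adjunction.homEquiv_naturality_left_symm, ← Adjunction.homEquiv_naturality_right_symm,
    rcl_bcQAdj]

end Square

end Groth.Agent.FlatBC6
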