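import Groth.Agent.FlatBC6.Rpush
import Groth.Agent.FlatBC6.Class
import Groth.Agent.QCoh.RpushModel
import Groth.Agent.CohPullLib.EpsSMul

/-!
# Sections of the higher direct images over affine opens, through the classes
-/

set_option backward.isDefEq.respectTransparency false
set_option backward.isDefEq.respectTransparency.types false
set_option linter.style.haveILetI false
set_option autoImplicit false
set_option maxRecDepth 4000
set_option maxHeartbeats 1000000

universe u

open CategoryTheory CategoryTheory.Limits AlgebraicGeometry TopologicalSpace Opposite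

namespace Groth.Agent.FlatBC6

open Groth.Agent.QCoh Groth.Agent.CohPullLib

variable {X S : Scheme.{u}} (f : X ⟶ S) (M : X.Modules) (V : S.Opens)

theorem toGlobal_secπ_eq_rhoV (hV : IsAffineOpen V) :
    Coh.toGlobal (secπ f hV (le_refl (f ⁻¹ᵁ V))) = rhoV f V := by
  ext a
  rw [toGlobal_secπ, ← Scheme.Hom.app_eq_appLE]
  show _ = (f ⁻¹ᵁ V).ι.appLE (f ⁻¹ᵁ V) ⊤ (f ⁻¹ᵁ V).ι_preimage_self.ge (f.app V a)
  rw [Scheme.Opens.ι_appLE]
  rfl

/-- The class of a section of the Godement cokernel over the preimage of `V`. -/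
noncomputable def theta (k : ℕ) :
    Γ((Scheme.Modules.pushforward f).obj (godQ M k), V) →+ Coh.HHon X M (f ⁻¹ᵁ V) k :=
  (cls (M.restrict (f ⁻¹ᵁ V).ι) k).comp
    { toFun := fun z => transferSec f M V k z
      map_zero' := by unfold transferSec; rw [map_zero]; exact rs_zero _
      map_add' := fun z w => transferSec_add f M V k z w }

theorem theta_apply (k : ℕ) (z : Γ(godQ M k, f ⁻¹ᵁ V)) :
    theta f M V k z = cls (M.restrict (f ⁻¹ᵁ V).ι) k (transferSec f M V k z) := rfl

theorem theta_surjective (k : ℕ) : Function.Surjective (theta f M V k) :=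
  (cls_surjective _ k).comp (bijective_transferSec f M V k).2

theorem theta_eq_zero_iff (k : ℕ) (z : Γ(godQ M k, f ⁻¹ᵁ V)) :
    theta f M V k z = 0 ↔ z ∈ bd M k (f ⁻¹ᵁ V) := by
  refine (cls_eq_zero_iff _ k _).trans ⟨fun h => ?_, fun h => ?_⟩
  · obtain ⟨z', hz', he⟩ := transferSec_bd f M V k _ h
    rwa [(bijective_transferSec f M V k).1 he] at hz'
  · cases k with
    | zero =>
      have hz : z = 0 := h
      subst hz
      show transferSec f M V 0 0 ∈ _
      unfold transferSec
      rw [map_zero]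
      exact (rs_zero (G := godQ (M.restrict (f ⁻¹ᵁ V).ι) 0) _).symm ▸ zero_mem _
    | succ n =>
      obtain ⟨b, hb⟩ := h
      refine ⟨rs (God (godQ (M.restrict (f ⁻¹ᵁ V).ι) n)) (f ⁻¹ᵁ V).ι_preimage_self.ge
        ((godMap (f ⁻¹ᵁ V).ι (godQMap (f ⁻¹ᵁ V).ι
          ((Scheme.Modules.restrictAdjunction (f ⁻¹ᵁ V).ι).unit.app M) n)).app (f ⁻¹ᵁ V) b), ?_⟩
      refine (app_rs _ _ _).trans ?_
      show _ = transferSec f M V (n + 1) z
      unfold transferSec
      refine congrArg (rs _ _) ?_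
      refine ((congr(($(godπ_godQMap (f ⁻¹ᵁ V).ι
        ((Scheme.Modules.restrictAdjunction (f ⁻¹ᵁ V).ι).unit.app M) n)).app (f ⁻¹ᵁ V) b) : _).symm).trans ?_
      exact congrArg ((godQMap (f ⁻¹ᵁ V).ι _ (n + 1)).app _) hb

theorem theta_smul (k : ℕ) (r : Γ(S, V)) (z : Γ((Scheme.Modules.pushforward f).obj (godQ M k), V)) :
    letI := modHH (rhoV f V) (M.restrict (f ⁻¹ᵁ V).ι) k
    theta f M V k (r • z) = r • theta f M V k z := by
  letI := secModule (rhoV f V) (godQ (M.restrict (f ⁻¹ᵁ V).ι) k) ⊤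
  exact (congrArg (cls (M.restrict (f ⁻¹ᵁ V).ι) k) (transferSec_smul f M V k r z)).trans
    (cls_smul (rhoV f V) (M.restrict (f ⁻¹ᵁ V).ι) k r _)

variable [HasInjectiveResolutions X.Modules] [QuasiCompact f] [QuasiSeparated f]

theorem app_rcl_spec {M : X.Modules} (hM : Coh.IsQCoh M) {V : S.Opens} (hV : IsAffineOpen V) : ∀ k,
    Function.Surjective ((rcl M f k).app V) ∧
      ∀ z : Γ((Scheme.Modules.pushforward f).obj (godQ M k), V), (rcl M f k).app V z = 0 ↔
        (show Γ(godQ M k, f ⁻¹ᵁ V) from z) ∈ bd M k (f ⁻¹ᵁ V)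
  | 0 => by
    haveI := isIso_rcl_zero M f
    have h : Function.Bijective ((rcl M f 0).app V) := ⟨fun a b hab => by
        have := congrArg ((inv (rcl M f 0)).app V) hab
        simpa [← ConcreteCategory.comp_apply, ← Scheme.Modules.Hom.comp_app] using this,
      fun y => ⟨(inv (rcl M f 0)).app V y, by simp [← ConcreteCategory.comp_apply, ← Scheme.Modules.Hom.comp_app]⟩⟩
    refine ⟨h.2, fun z => (map_eq_zero_iff _ h.1).trans ?_⟩
    exact (Submodule.mem_bot Γ(X, f ⁻¹ᵁ V) (M := Γ(godQ M 0, f ⁻¹ᵁ V)) (x := z)).symm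
  | n + 1 => by
    haveI := isIso_desc_rcl M f n
    let α := (Scheme.Modules.pushforward f).map (godπ M n)
    let d := cokernel.desc α (rcl M f (n + 1)) (map_π_rcl M f n)
    have hq : LocRange α := locRange_rpushModel f hM n
    have hd : Function.Bijective (d.app V) := ⟨fun a b hab => by
        have := congrArg ((inv d).app V) hab
        simpa [← ConcreteCategory.comp_apply, ← Scheme.Modules.Hom.comp_app] using this,
      fun y => ⟨(inv d).app V y, by simp [← ConcreteCategory.comp_apply, ← Scheme.Modules.Hom.comp_app]⟩⟩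
    have hc : ∀ z, (rcl M f (n + 1)).app V z = d.app V ((cokernel.π α).app V z) := fun z =>
      congr(($(cokernel.π_desc α (rcl M f (n + 1)) (map_π_rcl M f n))).app V z).symm
    refine ⟨fun y => ?_, fun z => ?_⟩
    · obtain ⟨c, rfl⟩ := hd.2 y
      obtain ⟨z, rfl⟩ := hq.surjective hV c
      exact ⟨z, hc z⟩
    · rw [hc, map_eq_zero_iff _ hd.1]
      refine ⟨fun h => hq.mem_range hV z h, ?_⟩
      rintro ⟨a, ha⟩
      exact (congrArg _ ha.symm).trans (cokernel_π_app_app (α := α) a)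

theorem exists_eV {M : X.Modules} (hM : Coh.IsQCoh M) {V : S.Opens} (hV : IsAffineOpen V) (k : ℕ) :
    letI := modHH (Coh.toGlobal (secπ f hV (le_refl (f ⁻¹ᵁ V)))) (M.restrict (f ⁻¹ᵁ V).ι) k
    ∃ e : Γ((Coh.Rpush f k).obj M, V) ≃ₗ[Γ(S, V)] Coh.HHon X M (f ⁻¹ᵁ V) k,
      ∀ z : Γ((Scheme.Modules.pushforward f).obj (godQ M k), V),
        e ((rcl M f k).app V z) = theta f M V k z := by
  rw [toGlobal_secπ_eq_rhoV]
  letI := modHH (rhoV f V) (M.restrict (f ⁻¹ᵁ V).ι) k
  obtain ⟨hs, hker⟩ := app_rcl_spec f hM hV k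
  let p : Γ((Scheme.Modules.pushforward f).obj (godQ M k), V) →ₗ[Γ(S, V)] Γ((Coh.Rpush f k).obj M, V) :=
    appLin (rcl M f k) V
  let q : Γ((Scheme.Modules.pushforward f).obj (godQ M k), V) →ₗ[Γ(S, V)] Coh.HHon X M (f ⁻¹ᵁ V) k :=
    { toFun := theta f M V k, map_add' := map_add _, map_smul' := theta_smul f M V k }
  have hk : LinearMap.ker p = LinearMap.ker q := Submodule.ext fun z =>
    (hker z).trans (theta_eq_zero_iff f M V k z).symm
  let e := ((p.quotKerEquivOfSurjective hs).symm.trans (Submodule.quotEquivOfEq _ _ hk)).trans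
    (q.quotKerEquivOfSurjective (theta_surjective f M V k))
  refine ⟨e, fun z => ?_⟩
  show e (p z) = q z
  have : (p.quotKerEquivOfSurjective hs).symm (p z) = Submodule.Quotient.mk z :=
    (LinearEquiv.symm_apply_eq _).2 (LinearMap.quotKerEquivOfSurjective_apply_mk p hs z).symm
  simp only [e, LinearEquiv.trans_apply, this, Submodule.quotEquivOfEq_mk,
    LinearMap.quotKerEquivOfSurjective_apply_mk]

end Groth.Agent.FlatBC6
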