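import Groth.Agent.QCoh.FlatBC
import Groth.Agent.CohPullLib.BCAffine

/-!
# Base change of tensor products of sections
-/

set_option backward.isDefEq.respectTransparency false
set_option backward.isDefEq.respectTransparency.types false
set_option linter.style.haveILetI false
set_option autoImplicit false
set_option maxRecDepth 4000
set_option maxHeartbeats 1000000

universe u

open CategoryTheory CategoryTheory.Limits AlgebraicGeometry TopologicalSpace Opposite
open scoped TensorProduct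

namespace Groth.Agent.FlatBC6

open Groth.Agent.QCoh Groth.Agent.CohPullLib

/-- A tensor product of two base changes, over the bottom of a pushout. -/
theorem bijective_twist {A C R R' Gm Fm Gp Fp T : Type u} [CommRing A] [CommRing C] [CommRing R] [CommRing R']
    [Algebra A C] [Algebra A R] [Algebra C R'] [Algebra R R'] [Algebra A R'] [IsScalarTower A R R']
    [IsScalarTower A C R'] [Algebra.IsPushout A C R R']
    [AddCommGroup Gm] [Module C Gm] [Module A Gm] [IsScalarTower A C Gm]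
    [AddCommGroup Fm] [Module R Fm] [Module A Fm] [IsScalarTower A R Fm]
    [AddCommGroup Gp] [Module R' Gp] [Module C Gp] [IsScalarTower C R' Gp]
    [AddCommGroup Fp] [Module R' Fp] [Module R Fp] [IsScalarTower R R' Fp] [Module C Fp] [IsScalarTower C R' Fp]
    [Module A Fp] [IsScalarTower A C Fp] [IsScalarTower A R Fp]
    (lF : Fm →ₗ[R] Fp) (hlF : IsBaseChange R' lF) (lG : Gm →ₗ[C] Gp) (hlG : IsBaseChange R' lG)
    [AddCommGroup T] (τ : Gp ⊗[R'] Fp →+ T) (hτ : Function.Bijective τ)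
    (t : Gm ⊗[A] Fm →+ T) (ht : ∀ m s, t (m ⊗ₜ s) = τ (lG m ⊗ₜ lF s)) : Function.Bijective t := by
  let lA : Fm →ₗ[A] Fp := lF.restrictScalars A
  have hC : IsBaseChange C lA := isBaseChange_of_isPushout lF hlF lA fun _ => rfl
  let e : Gm ⊗[A] Fm ≃+ Gp ⊗[R'] Fp :=
    (hC.tensorEquiv Gm).symm.toAddEquiv.trans ((TensorProduct.comm C Gm Fp).toAddEquiv.trans
      ((hlG.tensorEquiv Fp).symm.toAddEquiv.trans (TensorProduct.comm R' Fp Gp).toAddEquiv))
  have he : ∀ m s, e (m ⊗ₜ s) = lG m ⊗ₜ lF s := fun m s => by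
    have h1 : (hC.tensorEquiv Gm).symm (m ⊗ₜ[A] s) = m ⊗ₜ[C] lF s := by
      rw [LinearEquiv.symm_apply_eq]
      simp [IsBaseChange.tensorEquiv, show hC.equiv.symm (lF s) = 1 ⊗ₜ s from hC.equiv_symm_apply s]
    have h2 : (hlG.tensorEquiv Fp).symm (lF s ⊗ₜ[C] m) = lF s ⊗ₜ[R'] lG m := by
      rw [LinearEquiv.symm_apply_eq]
      simp [IsBaseChange.tensorEquiv, IsBaseChange.equiv_symm_apply]
    show TensorProduct.comm R' Fp Gp ((hlG.tensorEquiv Fp).symm (TensorProduct.comm C Gm Fp
      ((hC.tensorEquiv Gm).symm (m ⊗ₜ[A] s)))) = _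
    rw [h1, TensorProduct.comm_tmul, h2, TensorProduct.comm_tmul]
  have : ⇑t = τ ∘ e := funext fun z => by
    induction z using TensorProduct.induction_on with
    | zero => simp only [Function.comp_apply, map_zero]
    | add a b ha hb => simp only [Function.comp_apply] at ha hb ⊢; rw [map_add, map_add, map_add, ha, hb]
    | tmul m s => rw [Function.comp_apply, he, ht]
  rw [this]
  exact hτ.comp e.bijective

variable {X S S' X' : Scheme.{u}} {f : X ⟶ S} {g : S' ⟶ S} {f' : X' ⟶ S'} {g' : X' ⟶ X}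

/-- Sections over affine opens of a cartesian square form a pushout. -/
theorem isPushout_aff (h : IsPullback g' f' f g) {V : S.Opens} (hV : IsAffineOpen V) {W : S'.Opens}
    (hW : IsAffineOpen W) (hle : W ≤ g ⁻¹ᵁ V) {O : X.Opens} (hO : IsAffineOpen O) (hOV : O ≤ f ⁻¹ᵁ V)
    {O' : X'.Opens} (hO' : O' = g' ⁻¹ᵁ O ⊓ f' ⁻¹ᵁ W) (e₁ : O' ≤ g' ⁻¹ᵁ O) (e₂ : O' ≤ f' ⁻¹ᵁ W) :
    IsAffineOpen O' ∧ IsPushout (f.appLE V O hOV) (g.appLE V W hle) (g'.appLE O O' e₁) (f'.appLE W O' e₂) := by
  have h1 := Scheme.Hom.isPullback_resLE h (US := V) (UT := W) (UX := O) (UY := O') hle hOV hO'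
  haveI : IsAffine V.toScheme := hV
  haveI : IsAffine W.toScheme := hW
  haveI : IsAffine O.toScheme := hO
  haveI : IsAffine (pullback (f.resLE V O hOV) (g.resLE V W hle)) := inferInstance
  haveI hA : IsAffine O'.toScheme := .of_isIso h1.isoPullback.hom
  refine ⟨hA, (isPushout_appTop_of_isPullback h1).of_iso V.topIso O.topIso W.topIso O'.topIso ?_ ?_ ?_ ?_⟩
  all_goals simp [Scheme.Hom.appTop, Scheme.Hom.resLE_app_top]

end Groth.Agent.FlatBC6
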