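import Groth.Agent.FlatBC6.TwistMap

/-!
# Base change with flat coefficients for higher direct images
-/

set_option backward.isDefEq.respectTransparency false
set_option backward.isDefEq.respectTransparency.types false
set_option linter.style.haveILetI false
set_option autoImplicit false
set_option maxRecDepth 4000
set_option maxHeartbeats 1000000

universe u

open CategoryTheory CategoryTheory.Limits AlgebraicGeometry TopologicalSpace Opposite

namespace Groth.Agent.FlatBC6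

open Groth.Agent.QCoh Groth.Agent.CohPullLib

/-- A linear family of bijections on a basis of affine pairs gives an isomorphism of modules. -/
theorem nonempty_iso_of_affPair {S S' : Scheme.{u}} (g : S' ⟶ S) {P T : S'.Modules}
    (φ : ∀ W : AffPair g, Γ(P, W.1.1) →+ Γ(T, W.1.1))
    (hnat : ∀ (W W₂ : AffPair g) (h : W₂.1.1 ≤ W.1.1) (x : Γ(P, W.1.1)), φ W₂ (rs P h x) = rs T h (φ W x))
    (hbij : ∀ W, Function.Bijective (φ W))
    (hlin : ∀ (W : AffPair g) (c : Γ(S', W.1.1)) (x : Γ(P, W.1.1)), φ W (c • x) = c • φ W x) :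
    Nonempty (P ≅ T) := by
  let hB := isBasis_affPair g
  let PT : TopCat.Sheaf AddCommGrpCat.{u} S'.toPresheafedSpace.carrier := ⟨T.presheaf, T.isSheaf⟩
  let α : (inducedFunctor (fun W : AffPair g => W.1.1)).op ⋙ P.presheaf ⟶
      (inducedFunctor (fun W : AffPair g => W.1.1)).op ⋙ PT.obj :=
    { app := fun W => AddCommGrpCat.ofHom (φ W.unop)
      naturality := fun W W₂ i => AddCommGrpCat.ext fun x => hnat W.unop W₂.unop i.unop.hom.le x }
  let θ : P.presheaf ⟶ T.presheaf := TopCat.Sheaf.restrictHomEquivHom _ PT hB α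
  have hθ : ∀ (W : AffPair g) (x : Γ(P, W.1.1)), θ.app (op W.1.1) x = φ W x := fun W x =>
    congr($(TopCat.Sheaf.extend_hom_app P.presheaf PT hB α W) x)
  let ψ : P ⟶ T := ⟨PresheafOfModules.homMk θ fun O (c : Γ(S', O.unop)) (x : Γ(P, O.unop)) => by
    show (show Γ(T, O.unop) from θ.app O (c • x)) = c • (show Γ(T, O.unop) from θ.app O x)
    refine sub_eq_zero.1 (eq_zero_of_locally (M := T) _ _ fun y hy => ?_)
    obtain ⟨_, ⟨W, rfl⟩, hyW, hWO⟩ := Opens.isBasis_iff_nbhd.1 hB hy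
    refine ⟨W.1.1, homOfLE hWO, hyW, ?_⟩
    show rs T hWO (_ - _) = 0
    rw [rs_sub, sub_eq_zero]
    have hn : ∀ z : Γ(P, O.unop), rs T hWO (show Γ(T, O.unop) from θ.app O z) = φ W (rs P hWO z) := fun z =>
      ((congr($(θ.naturality (homOfLE hWO).op) z)).symm.trans (hθ W _))
    rw [hn, rs_smul, rs_smul, hn, hlin]⟩
  have : IsIso ψ := isIso_of_app_affPair (g := g) ψ fun V W hV hW hle => by
    rw [show ⇑(ψ.app W) = φ ⟨⟨W, hW⟩, V, hV, hle⟩ from funext (hθ ⟨⟨W, hW⟩, V, hV, hle⟩)]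
    exact hbij _
  exact ⟨asIso ψ⟩

variable {X S S' X' : Scheme.{u}} {f : X ⟶ S} {g : S' ⟶ S} {f' : X' ⟶ S'} {g' : X' ⟶ X}
  [HasInjectiveResolutions X.Modules] [HasInjectiveResolutions X'.Modules]

/-- **Base change with flat coefficients.** -/
theorem nonempty_twist_iso [QuasiCompact f] [QuasiSeparated f] (h : IsPullback g' f' f g) (G : S'.Modules)
    (hG : Coh.IsQCoh G) (hGf : FlatMod.IsFlatOver g G) (F : X.Modules) (hF : Coh.IsQCoh F) (i : ℕ) :
    Nonempty (twP f g G F i ≅ twT f' g' G F i) := by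
  haveI : QuasiCompact f' := MorphismProperty.of_isPullback h inferInstance
  haveI : QuasiSeparated f' := MorphismProperty.of_isPullback h inferInstance
  choose V hV hle using fun W : AffPair g => W.2
  choose φ hφ hbij hlin using fun W : AffPair g => exists_isTwistMap G F i h hG hGf hF (hV W) W.1.2 (hle W)
  refine nonempty_iso_of_affPair g φ (fun W W₂ h₂ x => ?_) hbij hlin
  refine sub_eq_zero.1 (eq_zero_of_locally (M := twT f' g' G F i) _ _ fun y hy => ?_)
  obtain ⟨V₃, W₃, hV₃, hW₃, hy₃, hW₃W, hV₃V, hV₃V₂, hle₃⟩ :=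
    exists_affPair_le (V := V W) (V₂ := V W₂) (h₂.trans (hle W)) (hle W₂) hy
  refine ⟨W₃, homOfLE hW₃W, hy₃, ?_⟩
  show rs (twT f' g' G F i) hW₃W (_ - _) = 0
  obtain ⟨φ₃, hφ₃, -, -⟩ := exists_isTwistMap G F i h hG hGf hF hV₃ hW₃ hle₃
  rw [rs_sub, sub_eq_zero, ← (hφ W₂).res G F i hG hF (hV W₂) W₂.1.2 hV₃V₂ hW₃W hφ₃, rs_rs, rs_rs,
    ← (hφ W).res G F i hG hF (hV W) W.1.2 hV₃V (hW₃W.trans h₂) hφ₃]

end Groth.Agent.FlatBC6
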