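import Groth.Agent.FlatBC6.TwistRes
import Groth.Agent.FlatBC6.Main

/-!
# The twisted base change map over affine opens
-/

set_option backward.isDefEq.respectTransparency false
set_option backward.isDefEq.respectTransparency.types false
set_option linter.style.haveILetI false
set_option autoImplicit false
set_option maxRecDepth 4000
set_option maxHeartbeats 1000000

universe u

open CategoryTheory CategoryTheory.Limits AlgebraicGeometry TopologicalSpace Opposite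
open scoped TensorProduct

namespace Groth.Agent.FlatBC6

open Groth.Agent.QCoh Groth.Agent.CohPullLib Groth.Agent.ExistEasy

variable {X S S' X' : Scheme.{u}} {f : X ⟶ S} {g : S' ⟶ S} {f' : X' ⟶ S'} {g' : X' ⟶ X}
  [HasInjectiveResolutions X.Modules] [HasInjectiveResolutions X'.Modules]

omit [HasInjectiveResolutions X'.Modules] in
/-- Restriction of the higher direct image is restriction on cohomology. -/
theorem eV_res [QuasiCompact f] [QuasiSeparated f] {M : X.Modules} (hM : Coh.IsQCoh M) {V V₂ : S.Opens}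
    (hV : IsAffineOpen V) (h : V₂ ≤ V) (k : ℕ)
    (e : Γ((Coh.Rpush f k).obj M, V) → Coh.HHon X M (f ⁻¹ᵁ V) k)
    (e₂ : Γ((Coh.Rpush f k).obj M, V₂) → Coh.HHon X M (f ⁻¹ᵁ V₂) k)
    (he : ∀ z : Γ((Scheme.Modules.pushforward f).obj (godQ M k), V), e ((rcl M f k).app V z) = theta f M V k z)
    (he₂ : ∀ z : Γ((Scheme.Modules.pushforward f).obj (godQ M k), V₂), e₂ ((rcl M f k).app V₂ z) = theta f M V₂ k z)
    (r : Γ((Coh.Rpush f k).obj M, V)) :
    e₂ (rs ((Coh.Rpush f k).obj M) h r) = pab _ (etaAb _ (resHom M (f.preimage_mono h))) k (e r) := by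
  obtain ⟨z, rfl⟩ := (app_rcl_spec f hM hV k).1 r
  rw [he, pab_res_theta f M h k z, ← app_rs, he₂]
  rfl

variable (f g f' g') (G : S'.Modules) (F : X.Modules) (i : ℕ)

/-- `G ⊗ g^* R^i f_* F`. -/
noncomputable abbrev twP : S'.Modules :=
  (DCoh.tensorBi.obj G).obj ((Scheme.Modules.pullback g).obj ((Coh.Rpush f i).obj F))

/-- `R^i f'_* (f'^* G ⊗ g'^* F)`. -/
noncomputable abbrev twT : S'.Modules := (Coh.Rpush f' i).obj (twN f' g' G F)

variable {f g f' g'}

/-- The twisted base change map on an affine pair, by its values. -/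
def IsTwistMap (w : g' ≫ f = f' ≫ g) (V : S.Opens) (W : S'.Opens) (hle : W ≤ g ⁻¹ᵁ V)
    (φ : Γ(twP f g G F i, W) →+ Γ(twT f' g' G F i, W)) : Prop :=
  ∃ (eV : Γ((Coh.Rpush f i).obj F, V) → Coh.HHon X F (f ⁻¹ᵁ V) i)
    (eW : Γ(twT f' g' G F i, W) → Coh.HHon X' (twN f' g' G F) (f' ⁻¹ᵁ W) i),
    (∀ z : Γ((Scheme.Modules.pushforward f).obj (godQ F i), V), eV ((rcl F f i).app V z) = theta f F V i z) ∧
    (∀ z : Γ((Scheme.Modules.pushforward f').obj (godQ (twN f' g' G F) i), W),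
      eW ((rcl (twN f' g' G F) f' i).app W z) = theta f' (twN f' g' G F) W i z) ∧
    Function.Injective eW ∧
    ∀ (m : Γ(G, W)) (r : Γ((Coh.Rpush f i).obj F, V)),
      eW (φ (tmS _ _ m (pullSec g ((Coh.Rpush f i).obj F) hle r))) =
        pab _ (twistAb f' g' G F (sectLE w hle) m) i (eV r)

omit [HasInjectiveResolutions X.Modules] [HasInjectiveResolutions X'.Modules] in
theorem twistAb_smul {V : S.Opens} {W : S'.Opens} (hW : IsAffineOpen W) (hU : f' ⁻¹ᵁ W ≤ g' ⁻¹ᵁ (f ⁻¹ᵁ V))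
    (c : Γ(S', W)) (m : Γ(G, W)) :
    twistAb f' g' G F hU m ≫ (CohTop.push (g'.resLE (f ⁻¹ᵁ V) (f' ⁻¹ᵁ W) hU).base).map
        (Coh.smulAb ((twN f' g' G F).restrict (f' ⁻¹ᵁ W).ι)
          (Coh.toGlobal (secπ f' hW (le_refl (f' ⁻¹ᵁ W))) c)) =
      twistAb f' g' G F hU (c • m) := by
  refine Sheaf.hom_ext (NatTrans.ext (funext fun O => AddCommGrpCat.ext fun s => ?_))
  let U' := f' ⁻¹ᵁ W
  let P := g'.resLE (f ⁻¹ᵁ V) U' hU ⁻¹ᵁ O.unop
  refine Eq.trans (b := f'.appLE W (U'.ι ''ᵁ P) (image_le_preimage f' P) c •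
    twSec f' g' G F hU m O.unop (show Γ(F, (f ⁻¹ᵁ V).ι ''ᵁ O.unop) from s)) ?_ ?_
  · refine congrArg (fun r : Γ(X', U'.ι ''ᵁ P) => r •
      twSec f' g' G F hU m O.unop (show Γ(F, (f ⁻¹ᵁ V).ι ''ᵁ O.unop) from s)) ?_
    show (U'.ι.appIso P).inv (U'.toScheme.presheaf.map (homOfLE (le_top : P ≤ ⊤)).op
      (Coh.toGlobal (secπ f' hW (le_refl U')) c)) = _
    rw [toGlobal_secπ, Scheme.Opens.ι_appIso]
    show (X'.presheaf.map _) ((X'.presheaf.map _) (f'.appLE W U' le_rfl c)) = _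
    rw [← ConcreteCategory.comp_apply, ← ConcreteCategory.comp_apply, ← Functor.map_comp, Scheme.Hom.appLE_map]
    rfl
  · show _ = twSec f' g' G F hU (c • m) O.unop (show Γ(F, (f ⁻¹ᵁ V).ι ''ᵁ O.unop) from s)
    unfold twSec
    rw [pullSec_smul, tmS_smul_left]

/-- **The twisted base change map on an affine pair exists, is bijective and linear.** -/
theorem exists_isTwistMap [QuasiCompact f] [QuasiSeparated f] (h : IsPullback g' f' f g) (hG : Coh.IsQCoh G)
    (hGf : FlatMod.IsFlatOver g G) (hF : Coh.IsQCoh F) {V : S.Opens} (hV : IsAffineOpen V) {W : S'.Opens}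
    (hW : IsAffineOpen W) (hle : W ≤ g ⁻¹ᵁ V) :
    ∃ φ : Γ(twP f g G F i, W) →+ Γ(twT f' g' G F i, W),
      IsTwistMap G F i h.w V W hle φ ∧ Function.Bijective φ ∧ ∀ (c : Γ(S', W)) (x : Γ(twP f g G F i, W)), φ (c • x) = c • φ x := by
  haveI : QuasiCompact f' := MorphismProperty.of_isPullback h inferInstance
  haveI : QuasiSeparated f' := MorphismProperty.of_isPullback h inferInstance
  let A := Γ(S, V)
  let C := Γ(S', W)
  let U := f ⁻¹ᵁ V
  let U' := f' ⁻¹ᵁ W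
  let hU := sectLE h.w hle
  let R := (Coh.Rpush f i).obj F
  let N := twN f' g' G F
  have hN : Coh.IsQCoh N := isQCoh_twN f' g' hG hF
  letI : U.toScheme.Over (Spec (CommRingCat.of A)) := ⟨secπ f hV le_rfl⟩
  letI : Algebra A C := (g.appLE V W hle).hom.toAlgebra
  letI : Module A Γ(G, W) := Module.compHom _ (g.appLE V W hle).hom
  haveI : IsScalarTower A C Γ(G, W) := .of_algebraMap_smul fun _ _ => rfl
  haveI : Module.Flat A Γ(G, W) := (flat_appLE_iff g hG hW hV hle).2 fun x _ => hGf x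
  letI : Module A Γ((Scheme.Modules.pullback g).obj R, W) := Module.compHom _ (g.appLE V W hle).hom
  haveI : IsScalarTower A C Γ((Scheme.Modules.pullback g).obj R, W) :=
    ⟨fun a b c => mul_smul ((g.appLE V W hle).hom a) b c⟩
  obtain ⟨l₀, hl₀, hb₀⟩ := exists_pullSec_baseChange g (isQCoh_Rpush f hF i) hW hV hle
  letI := modHH (Coh.toGlobal (secπ f hV (le_refl U))) (F.restrict U.ι) i
  letI := modHH (Coh.toGlobal (secπ f' hW (le_refl U'))) (N.restrict U'.ι) i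
  obtain ⟨eV, heV⟩ := exists_eV f hF hV i
  obtain ⟨eW, heW⟩ := exists_eV f' hN hW i
  obtain ⟨θ, hθi, hθ⟩ := exists_thetaTwist f f' g' G F h hG hF hV hW hle
  haveI := hθi
  haveI : CompactSpace U.toScheme := isCompact_iff_compactSpace.mp (f.isCompact_preimage hV.isCompact)
  haveI : QuasiSeparatedSpace U.toScheme :=
    isQuasiSeparated_iff_quasiSeparatedSpace ((U : X.Opens) : Set X) U.2 |>.mp
      (f.isQuasiSeparated_preimage hV.isQuasiSeparated)
  haveI : IsAffineHom (g'.resLE U U' hU) :=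
    MorphismProperty.of_isPullback (isPullback_sect h hV hW hle).flip inferInstance
  haveI : Coh.IsQCoh (N.restrict U'.ι) := isQCoh_restrict _ hN
  let NA := ModuleCat.of A Γ(G, W)
  haveI : Module.Flat A NA := inferInstanceAs (Module.Flat A Γ(G, W))
  let P₂ := (Scheme.Modules.pullback g).obj R
  let ψ₁ : Γ(G, W) ⊗[A] Γ(R, V) ≃+ Γ(twP f g G F i, W) :=
    (hb₀.tensorEquiv Γ(G, W)).symm.toAddEquiv.trans
      (AddEquiv.ofBijective (tmLin G P₂ W).toAddMonoidHom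
        (bijective_tmLin hG (isQCoh_pullback g (isQCoh_Rpush f hF i)) hW))
  have hψ₁ : ∀ m r, ψ₁ (m ⊗ₜ[A] r) = tmS G P₂ m (pullSec g R hle r) := fun m r => by
    show tmLin G P₂ W ((hb₀.tensorEquiv Γ(G, W)).symm (m ⊗ₜ[A] r)) = _
    have h1 : (hb₀.tensorEquiv Γ(G, W)).symm (m ⊗ₜ[Γ(S, V)] r) = m ⊗ₜ[Γ(S', W)] l₀ r := by
      rw [LinearEquiv.symm_apply_eq]
      show _ = TensorProduct.AlgebraTensorModule.cancelBaseChange Γ(S, V) Γ(S', W) Γ(S', W) Γ(G, W)
        Γ((Coh.Rpush f i).obj F, V) (m ⊗ₜ[Γ(S', W)] hb₀.equiv.symm (l₀ r))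
      rw [IsBaseChange.equiv_symm_apply, TensorProduct.AlgebraTensorModule.cancelBaseChange_tmul, one_smul]
    rw [h1, hl₀]
    rfl
  let ψ₂ : Γ(G, W) ⊗[A] Γ(R, V) ≃+ Γ(twT f' g' G F i, W) :=
    (TensorProduct.congr (LinearEquiv.refl A NA) eV).toAddEquiv.trans
      ((AddEquiv.ofBijective (psi (F.restrict U.ι) i NA) (bijective_psi i (isQCoh_restrict _ hF) NA)).trans
        ((AddEquiv.ofBijective (pab (g'.resLE U U' hU).base θ i) (pab_bijective_of_isIso _ θ i)).trans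
          eW.symm.toAddEquiv))
  let φ := ψ₁.symm.trans ψ₂
  have hval : ∀ m r, eW (φ (tmS G P₂ m (pullSec g R hle r))) = pab _ (twistAb f' g' G F hU m) i (eV r) := by
    intro m r
    have h1 : ψ₁.symm (tmS G P₂ m (pullSec g R hle r)) = m ⊗ₜ[A] r := (AddEquiv.symm_apply_eq _).2 (hψ₁ m r).symm
    show eW (ψ₂ (ψ₁.symm _)) = _
    rw [h1]
    refine (eW.apply_symm_apply (pab (g'.resLE U U' hU).base θ i (psi (F.restrict U.ι) i NA (m ⊗ₜ[A] eV r)))).trans ?_
    rw [psi_tmul, pab_map, hθ]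
  refine ⟨φ.toAddMonoidHom, ⟨eV, eW, heV, heW, eW.injective, hval⟩, φ.bijective, fun c x => ?_⟩
  show φ (c • x) = c • φ x
  obtain ⟨z, rfl⟩ := ψ₁.surjective x
  induction z using TensorProduct.induction_on with
  | zero => simp only [map_zero, smul_zero]
  | add a b ha hb => simp only [map_add, smul_add] at ha hb ⊢; rw [ha, hb]
  | tmul m r =>
    apply eW.injective
    rw [hψ₁, ← tmS_smul_left]
    refine (hval (c • m) r).trans (Eq.trans ?_ (eW.map_smul c _).symm)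
    refine Eq.trans ?_ (congrArg (c • ·) (hval m r)).symm
    show _ = Sheaf.H.map (Coh.smulAb (N.restrict U'.ι) _) i _
    rw [pab_congr_map]
    exact congrArg (fun t => pab (g'.resLE U U' hU).base t i (eV r)) (twistAb_smul G F hW hU c m).symm

omit [HasInjectiveResolutions X'.Modules] in
theorem exists_affPair_le {W : S'.Opens} {V V₂ : S.Opens} (h₁ : W ≤ g ⁻¹ᵁ V) (h₂ : W ≤ g ⁻¹ᵁ V₂) {y : S'}
    (hy : y ∈ W) : ∃ (V₃ : S.Opens) (W₃ : S'.Opens), IsAffineOpen V₃ ∧ IsAffineOpen W₃ ∧ y ∈ W₃ ∧ W₃ ≤ W ∧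
      V₃ ≤ V ∧ V₃ ≤ V₂ ∧ W₃ ≤ g ⁻¹ᵁ V₃ := by
  obtain ⟨V₃, hV₃, hyV, hV₃le⟩ := Opens.isBasis_iff_nbhd.1 S.isBasis_affineOpens
    (show g y ∈ V ⊓ V₂ from ⟨h₁ hy, h₂ hy⟩)
  obtain ⟨W₃, hW₃, hyW, hW₃le⟩ := Opens.isBasis_iff_nbhd.1 S'.isBasis_affineOpens
    (show y ∈ W ⊓ g ⁻¹ᵁ V₃ from ⟨hy, hyV⟩)
  exact ⟨V₃, W₃, hV₃, hW₃, hyW, hW₃le.trans inf_le_left, hV₃le.trans inf_le_left, hV₃le.trans inf_le_right,
    hW₃le.trans inf_le_right⟩

/-- The twisted base change maps commute with restriction. -/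
theorem IsTwistMap.res [QuasiCompact f] [QuasiSeparated f] [QuasiCompact f'] [QuasiSeparated f'] {w : g' ≫ f = f' ≫ g}
    (hG : Coh.IsQCoh G) (hF : Coh.IsQCoh F) {V V₂ : S.Opens} (hV : IsAffineOpen V) {W W₂ : S'.Opens}
    (hW : IsAffineOpen W) {hle : W ≤ g ⁻¹ᵁ V} {hle₂ : W₂ ≤ g ⁻¹ᵁ V₂} (hVV : V₂ ≤ V) (hWW : W₂ ≤ W)
    {φ : Γ(twP f g G F i, W) →+ Γ(twT f' g' G F i, W)} {φ₂ : Γ(twP f g G F i, W₂) →+ Γ(twT f' g' G F i, W₂)}
    (h : IsTwistMap G F i w V W hle φ) (h₂ : IsTwistMap G F i w V₂ W₂ hle₂ φ₂) (x : Γ(twP f g G F i, W)) :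
    φ₂ (rs (twP f g G F i) hWW x) = rs (twT f' g' G F i) hWW (φ x) := by
  obtain ⟨eV, eW, hv, hw, -, hval⟩ := h
  obtain ⟨eV₂, eW₂, hv₂, hw₂, hinj, hval₂⟩ := h₂
  let R := (Coh.Rpush f i).obj F
  obtain ⟨z, rfl⟩ := (bijective_tmLin hG (isQCoh_pullback g (isQCoh_Rpush f hF i)) hW).2 x
  induction z using TensorProduct.induction_on with
  | zero => simp only [map_zero, rs_zero]
  | add a b ha hb => simp only [map_add, rs_add, ha, hb]
  | tmul m y =>
    induction mem_span_range_pullSec g (isQCoh_Rpush f hF i) hW hV hle y using Submodule.span_induction generalizing m with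
    | mem y hy =>
      obtain ⟨r, rfl⟩ := hy
      apply hinj
      refine Eq.trans ?_ (eV_res (f := f') (isQCoh_twN f' g' hG hF) hW hWW i eW eW₂ hw hw₂ _).symm
      rw [tmLin_tmul, hval, eq_comm]
      refine (resTw_left f' g' G F (sectLE w hle) hWW m i (eV r)).trans ?_
      have hrs : rs (twP f g G F i) hWW (tmS G _ m (pullSec g R hle r)) =
          tmS G _ (rs G hWW m) (pullSec g R hle₂ (rs R hVV r)) := by
        refine (map_tmS _ _ _ _ _).trans (congrArg (tmS G _ _) ?_)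
        exact pullSec_res g R hVV hWW hle hle₂ r
      rw [hrs, hval₂, eV_res hF hV hVV i eV eV₂ hv hv₂ r]
      exact (resTw_right f' g' G F (sectLE w hle₂) (f.preimage_mono hVV) (rs G hWW m) i (eV r)).symm
    | zero => simp only [TensorProduct.tmul_zero, map_zero, rs_zero]
    | add y y' _ _ hy hy' => rw [TensorProduct.tmul_add, map_add, map_add, rs_add, map_add, rs_add, hy m, hy' m]
    | smul c y _ hy =>
      rw [TensorProduct.tmul_smul, TensorProduct.smul_tmul']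
      exact hy (c • m)

end Groth.Agent.FlatBC6
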