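import Groth.Agent.FlatBC6.TwistSheaf
import Groth.Agent.FlatBC6.Res
import Groth.Agent.CohPullLib.Compose

/-!
# Twisted pullback and restriction
-/

set_option backward.isDefEq.respectTransparency false
set_option backward.isDefEq.respectTransparency.types false
set_option linter.style.haveILetI false
set_option autoImplicit false
set_option maxRecDepth 4000
set_option maxHeartbeats 1000000

universe u

open CategoryTheory CategoryTheory.Limits AlgebraicGeometry TopologicalSpace Opposite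

namespace Groth.Agent.FlatBC6

open Groth.Agent.QCoh Groth.Agent.CohPullLib Groth.Agent.ExistEasy

variable {X S' X' : Scheme.{u}} (f' : X' ⟶ S') (g' : X' ⟶ X) (G : S'.Modules) (F : X.Modules)
  {U U₂ : X.Opens} {W W₂ : S'.Opens}

theorem resMap_app' (M : X.Modules) {U' : X.Opens} (h : U' ≤ U) (O : U.toScheme.Opens) (s : Γ(M.restrict U.ι, O)) :
    (etaAb _ (resHom M h)).hom.app (op O) s =
      (show Γ(M.restrict U'.ι, (𝟙 X : X ⟶ X).resLE U U' (by rwa [Scheme.Hom.id_preimage]) ⁻¹ᵁ O) from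
        M.presheaf.map (homOfLE (resLE_image_le (𝟙 X) U U' (by rwa [Scheme.Hom.id_preimage]) O)).op
          (show Γ(M, U.ι ''ᵁ O) from s)) := by
  have e : etaAb _ (resHom M h) = resMap M h := by
    unfold resMap resHom etaAb
    rw [Functor.map_comp, pullOnMap_eq_etaAb]
    rfl
  rw [e]
  exact resMap_app M h O s

theorem resTw_left (hU : f' ⁻¹ᵁ W ≤ g' ⁻¹ᵁ U) (hW : W₂ ≤ W) (m : Γ(G, W)) (p : ℕ) (x : Coh.HHon X F U p) :
    pab _ (etaAb _ (resHom (twN f' g' G F) (f'.preimage_mono hW))) p (pab _ (twistAb f' g' G F hU m) p x) =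
      pab _ (twistAb f' g' G F ((f'.preimage_mono hW).trans hU) (G.presheaf.map (homOfLE hW).op m)) p x := by
  have hid : f' ⁻¹ᵁ W₂ ≤ (𝟙 X' : X' ⟶ X') ⁻¹ᵁ (f' ⁻¹ᵁ W) := by
    rw [Scheme.Hom.id_preimage]; exact f'.preimage_mono hW
  have e : g'.resLE U (f' ⁻¹ᵁ W₂) ((f'.preimage_mono hW).trans hU) =
      (𝟙 X' : X' ⟶ X').resLE (f' ⁻¹ᵁ W) (f' ⁻¹ᵁ W₂) hid ≫ g'.resLE U (f' ⁻¹ᵁ W) hU := by
    rw [Scheme.Hom.resLE_comp_resLE]
    simp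
  refine pab_comp_le _ _ (congrArg (fun t : (f' ⁻¹ᵁ W₂).toScheme ⟶ U.toScheme => t.base) e) _ _ _
    (fun O hO s => ?_) p x
  let N := twN f' g' G F
  let i := (𝟙 X' : X' ⟶ X').resLE (f' ⁻¹ᵁ W) (f' ⁻¹ᵁ W₂) hid
  let j := g'.resLE U (f' ⁻¹ᵁ W) hU
  refine Eq.trans ?_ (congrArg ((Coh.toAb (N.restrict (f' ⁻¹ᵁ W₂).ι)).obj.map (homOfLE hO).op)
    (resMap_app' N (f'.preimage_mono hW) (j ⁻¹ᵁ O) _)).symm
  let O₂ := g'.resLE U (f' ⁻¹ᵁ W₂) ((f'.preimage_mono hW).trans hU) ⁻¹ᵁ O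
  let O₁ := i ⁻¹ᵁ (j ⁻¹ᵁ O)
  show twSec f' g' G F _ (G.presheaf.map (homOfLE hW).op m) O (show Γ(F, U.ι ''ᵁ O) from s) =
    N.presheaf.map (homOfLE ((f' ⁻¹ᵁ W₂).ι.image_mono (show O₂ ≤ O₁ from hO))).op
      (N.presheaf.map (homOfLE (resLE_image_le (𝟙 X') (f' ⁻¹ᵁ W) (f' ⁻¹ᵁ W₂) hid (j ⁻¹ᵁ O))).op
        (twSec f' g' G F hU m O (show Γ(F, U.ι ''ᵁ O) from s)))
  unfold twSec
  rw [map_tmS, map_tmS, CohPullLib.pullSec_map, CohPullLib.pullSec_map, CohPullLib.pullSec_map]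
  congr 1
  · refine Eq.trans (pullSec_res f' G hW (le_refl _) ((image_le_preimage f' O₂).trans (f'.preimage_mono hW))
      (image_le_preimage f' O₂) m).symm ?_
    rw [CohPullLib.pullSec_map]
  · exact (CohPullLib.pullSec_map g' F _ _ _).symm

theorem resTw_right (hU : f' ⁻¹ᵁ W ≤ g' ⁻¹ᵁ U₂) (hU₂ : U₂ ≤ U) (m : Γ(G, W)) (p : ℕ) (x : Coh.HHon X F U p) :
    pab _ (twistAb f' g' G F hU m) p (pab _ (etaAb _ (resHom F hU₂)) p x) =
      pab _ (twistAb f' g' G F (hU.trans (g'.preimage_mono hU₂)) m) p x := by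
  have hid : U₂ ≤ (𝟙 X : X ⟶ X) ⁻¹ᵁ U := by rw [Scheme.Hom.id_preimage]; exact hU₂
  have e : g'.resLE U (f' ⁻¹ᵁ W) (hU.trans (g'.preimage_mono hU₂)) =
      g'.resLE U₂ (f' ⁻¹ᵁ W) hU ≫ (𝟙 X : X ⟶ X).resLE U U₂ hid := by
    rw [Scheme.Hom.resLE_comp_resLE]
    simp
  refine pab_comp_le _ _ (congrArg (fun t : (f' ⁻¹ᵁ W).toScheme ⟶ U.toScheme => t.base) e) _ _ _
    (fun O hO s => ?_) p x
  let N := twN f' g' G F
  let i := (𝟙 X : X ⟶ X).resLE U U₂ hid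
  let j := g'.resLE U₂ (f' ⁻¹ᵁ W) hU
  refine Eq.trans ?_ (congrArg (fun t => (Coh.toAb (N.restrict (f' ⁻¹ᵁ W).ι)).obj.map (homOfLE hO).op
    ((twistAb f' g' G F hU m).hom.app (op (i ⁻¹ᵁ O)) t)) (resMap_app' F hU₂ O s)).symm
  let O₂ := g'.resLE U (f' ⁻¹ᵁ W) (hU.trans (g'.preimage_mono hU₂)) ⁻¹ᵁ O
  show twSec f' g' G F _ m O (show Γ(F, U.ι ''ᵁ O) from s) =
    N.presheaf.map (homOfLE ((f' ⁻¹ᵁ W).ι.image_mono (show O₂ ≤ j ⁻¹ᵁ (i ⁻¹ᵁ O) from hO))).op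
      (twSec f' g' G F hU m (i ⁻¹ᵁ O) (F.presheaf.map (homOfLE (resLE_image_le (𝟙 X) U U₂ hid O)).op
        (show Γ(F, U.ι ''ᵁ O) from s)))
  unfold twSec
  rw [map_tmS, CohPullLib.pullSec_map]
  refine congrArg (tmS _ _ _) ?_
  refine Eq.symm ?_
  refine (CohPullLib.pullSec_map g' F _ _ _).trans ?_
  refine (pullSec_res g' F (resLE_image_le (𝟙 X) U U₂ hid O) (le_refl ((f' ⁻¹ᵁ W).ι ''ᵁ O₂))
    (resLE_image_le g' U (f' ⁻¹ᵁ W) (hU.trans (g'.preimage_mono hU₂)) O) _ (show Γ(F, U.ι ''ᵁ O) from s)).symm.trans ?_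
  exact CohPullLib.pullSec_map g' F _ _ _

end Groth.Agent.FlatBC6
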