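import Groth.Agent.FlatBC6.TwistAlg
import Groth.Agent.FlatBC6.FlatTensor
import Groth.Agent.FlatBC6.Routes

/-!
# `F ⊗_A G(W)` as a direct image
-/

set_option backward.isDefEq.respectTransparency false
set_option backward.isDefEq.respectTransparency.types false
set_option linter.style.haveILetI false
set_option autoImplicit false
set_option maxRecDepth 4000
set_option maxHeartbeats 1000000

universe u

open CategoryTheory CategoryTheory.Limits AlgebraicGeometry TopologicalSpace Opposite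
open scoped TensorProduct

namespace Groth.Agent.FlatBC6

open Groth.Agent.QCoh Groth.Agent.CohPullLib Groth.Agent.ExistEasy

variable {X S S' X' : Scheme.{u}} (f : X ⟶ S) (g : S' ⟶ S) (f' : X' ⟶ S') (g' : X' ⟶ X)

/-- `f'^* G ⊗ g'^* F`. -/
noncomputable abbrev twN (G : S'.Modules) (F : X.Modules) : X'.Modules :=
  (DCoh.tensorBi.obj ((Scheme.Modules.pullback f').obj G)).obj ((Scheme.Modules.pullback g').obj F)

theorem isQCoh_twN {G : S'.Modules} {F : X.Modules} (hG : Coh.IsQCoh G) (hF : Coh.IsQCoh F) :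
    Coh.IsQCoh (twN f' g' G F) :=
  KFlatLib.isQCoh_tensor (isQCoh_pullback f' hG) (isQCoh_pullback g' hF)

variable (G : S'.Modules) (F : X.Modules) {U : X.Opens} {W : S'.Opens} (hU : f' ⁻¹ᵁ W ≤ g' ⁻¹ᵁ U)

theorem image_le_preimage (O : (f' ⁻¹ᵁ W).toScheme.Opens) : (f' ⁻¹ᵁ W).ι ''ᵁ O ≤ f' ⁻¹ᵁ W := by
  rintro _ ⟨y, -, rfl⟩
  exact y.2

/-- Pullback of sections of `F`, times a section of `G`. -/
noncomputable def twSec (m : Γ(G, W)) (O : U.toScheme.Opens) (s : Γ(F, U.ι ''ᵁ O)) :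
    Γ(twN f' g' G F, (f' ⁻¹ᵁ W).ι ''ᵁ (g'.resLE U (f' ⁻¹ᵁ W) hU ⁻¹ᵁ O)) :=
  tmS _ _ (pullSec f' G (image_le_preimage f' _) m) (pullSec g' F (resLE_image_le g' U (f' ⁻¹ᵁ W) hU O) s)

/-- Pullback of `F`, times a section of `G`. -/
noncomputable def twistAb (m : Γ(G, W)) : Coh.toAb (F.restrict U.ι) ⟶
    (CohTop.push (g'.resLE U (f' ⁻¹ᵁ W) hU).base).obj (Coh.toAb ((twN f' g' G F).restrict (f' ⁻¹ᵁ W).ι)) :=
  ⟨{ app := fun O => AddCommGrpCat.ofHom (AddMonoidHom.mk'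
      (fun s : Γ(F, U.ι ''ᵁ O.unop) => (show Γ((twN f' g' G F).restrict (f' ⁻¹ᵁ W).ι,
        g'.resLE U (f' ⁻¹ᵁ W) hU ⁻¹ᵁ O.unop) from twSec f' g' G F hU m O.unop s))
      fun s s' => by
        show twSec f' g' G F hU m O.unop (s + s') = twSec f' g' G F hU m O.unop s + twSec f' g' G F hU m O.unop s'
        unfold twSec
        rw [pullSec_add, tmS_add_right])
     naturality := fun O P i => AddCommGrpCat.ext fun s => by
      let j := g'.resLE U (f' ⁻¹ᵁ W) hU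
      let i' := (f' ⁻¹ᵁ W).ι.image_mono (j.preimage_mono i.unop.le)
      refine Eq.symm ?_
      show (twN f' g' G F).presheaf.map (homOfLE i').op (twSec f' g' G F hU m O.unop s) =
        twSec f' g' G F hU m P.unop (F.presheaf.map (homOfLE (U.ι.image_mono i.unop.le)).op s)
      unfold twSec
      rw [map_tmS, CohPullLib.pullSec_map,
        pullSec_res g' F (U.ι.image_mono i.unop.le) i' _ (resLE_image_le g' U (f' ⁻¹ᵁ W) hU P.unop)] }⟩

theorem twistAb_app (m : Γ(G, W)) (O : U.toScheme.Opens) (s : Γ(F.restrict U.ι, O)) :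
    (twistAb f' g' G F hU m).hom.app (op O) s =
      (show Γ((twN f' g' G F).restrict (f' ⁻¹ᵁ W).ι, g'.resLE U (f' ⁻¹ᵁ W) hU ⁻¹ᵁ O) from
        twSec f' g' G F hU m O (show Γ(F, U.ι ''ᵁ O) from s)) :=
  rfl

theorem image_resLE_preimage (O : U.toScheme.Opens) :
    (f' ⁻¹ᵁ W).ι ''ᵁ (g'.resLE U (f' ⁻¹ᵁ W) hU ⁻¹ᵁ O) = g' ⁻¹ᵁ (U.ι ''ᵁ O) ⊓ f' ⁻¹ᵁ W := by
  refine le_antisymm (le_inf (resLE_image_le g' U _ hU O) (image_le_preimage f' _)) fun y hy => ?_
  obtain ⟨x, hx, hxy⟩ := hy.1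
  refine ⟨⟨y, hy.2⟩, ?_, rfl⟩
  show g'.resLE U (f' ⁻¹ᵁ W) hU ⟨y, hy.2⟩ ∈ O
  have hj : U.ι (g'.resLE U (f' ⁻¹ᵁ W) hU ⟨y, hy.2⟩) = g' y :=
    congrArg (fun t : (f' ⁻¹ᵁ W).toScheme ⟶ X => t ⟨y, hy.2⟩) (Scheme.Hom.resLE_comp_ι g' hU)
  have : g'.resLE U (f' ⁻¹ᵁ W) hU ⟨y, hy.2⟩ = x := U.ι.isOpenEmbedding.injective (hj.trans hxy.symm)
  rw [this]
  exact hx

variable {g}

/-- `F ⊗_A G(W)` over `U = f⁻¹V` is the direct image of `f'^* G ⊗ g'^* F` over `f'⁻¹W`. -/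
theorem exists_thetaTwist (h : IsPullback g' f' f g) (hG : Coh.IsQCoh G) (hF : Coh.IsQCoh F) {V : S.Opens}
    (hV : IsAffineOpen V) (hW : IsAffineOpen W) (hle : W ≤ g ⁻¹ᵁ V) :
    letI : (f ⁻¹ᵁ V).toScheme.Over (Spec (CommRingCat.of Γ(S, V))) := ⟨secπ f hV le_rfl⟩
    letI : Module Γ(S, V) Γ(G, W) := Module.compHom _ (g.appLE V W hle).hom
    ∃ θ : Coh.toAb (tA (F.restrict (f ⁻¹ᵁ V).ι) (ModuleCat.of Γ(S, V) Γ(G, W))) ⟶
      (CohTop.push (g'.resLE (f ⁻¹ᵁ V) (f' ⁻¹ᵁ W) (sectLE h.w hle)).base).obj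
        (Coh.toAb ((twN f' g' G F).restrict (f' ⁻¹ᵁ W).ι)), IsIso θ ∧
      ∀ m : Γ(G, W), jB (F.restrict (f ⁻¹ᵁ V).ι) (ModuleCat.of Γ(S, V) Γ(G, W)) m ≫ θ =
        twistAb f' g' G F (sectLE h.w hle) m := by
  letI : (f ⁻¹ᵁ V).toScheme.Over (Spec (CommRingCat.of Γ(S, V))) := ⟨secπ f hV le_rfl⟩
  letI : Module Γ(S, V) Γ(G, W) := Module.compHom _ (g.appLE V W hle).hom
  let U := f ⁻¹ᵁ V
  let U' := f' ⁻¹ᵁ W
  let hU := sectLE h.w hle
  let j := g'.resLE U U' hU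
  let F₀ := F.restrict U.ι
  have hF₀ : Coh.IsQCoh F₀ := isQCoh_restrict _ hF
  let NA := ModuleCat.of Γ(S, V) Γ(G, W)
  let N := twN f' g' G F
  let T := N.restrict U'.ι
  let ρ := Coh.toGlobal (U.toScheme ↘ Spec (CommRingCat.of Γ(S, V)))
  let P := (CohTop.push j.base).obj (Coh.toAb T)
  have key : ∀ O : U.toScheme.affineOpens, ∃ t : Γ(tA F₀ NA, O.1) →+ Γ(T, j ⁻¹ᵁ O.1), Function.Bijective t ∧
      ∀ (s : Γ(F₀, O.1)) (m : Γ(G, W)), t (tmS _ F₀ (uSec NA O.1 m) s) =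
        twSec f' g' G F hU m O.1 (show Γ(F, U.ι ''ᵁ O.1) from s) := by
    intro O
    let O₁ := U.ι ''ᵁ O.1
    let O' := U'.ι ''ᵁ (j ⁻¹ᵁ O.1)
    have hO₁ : IsAffineOpen O₁ := O.2.image_of_isOpenImmersion U.ι
    have hOV : O₁ ≤ f ⁻¹ᵁ V := by rintro _ ⟨y, -, rfl⟩; exact y.2
    have e₁ : O' ≤ g' ⁻¹ᵁ O₁ := resLE_image_le g' U U' hU O.1
    have e₂ : O' ≤ f' ⁻¹ᵁ W := image_le_preimage f' _
    obtain ⟨hO', hpo⟩ := isPushout_aff h hV hW hle hO₁ hOV (image_resLE_preimage f' g' hU O.1) e₁ e₂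
    letI : Algebra Γ(S, V) Γ(S', W) := (g.appLE V W hle).hom.toAlgebra
    letI : Algebra Γ(S, V) Γ(X, O₁) := (f.appLE V O₁ hOV).hom.toAlgebra
    letI : Algebra Γ(S', W) Γ(X', O') := (f'.appLE W O' e₂).hom.toAlgebra
    letI : Algebra Γ(X, O₁) Γ(X', O') := (g'.appLE O₁ O' e₁).hom.toAlgebra
    letI : Algebra Γ(S, V) Γ(X', O') := ((f'.appLE W O' e₂).hom.comp (g.appLE V W hle).hom).toAlgebra
    haveI : IsScalarTower Γ(S, V) Γ(S', W) Γ(X', O') := .of_algebraMap_eq' rfl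
    haveI : IsScalarTower Γ(S, V) Γ(X, O₁) Γ(X', O') := .of_algebraMap_eq fun a => congr($(hpo.w) a).symm
    haveI : Algebra.IsPushout Γ(S, V) Γ(S', W) Γ(X, O₁) Γ(X', O') :=
      CommRingCat.isPushout_iff_isPushout.1 hpo.flip
    haveI : IsScalarTower Γ(S, V) Γ(S', W) Γ(G, W) := .of_algebraMap_smul fun _ _ => rfl
    let Fp := (Scheme.Modules.pullback g').obj F
    let Gp := (Scheme.Modules.pullback f').obj G
    letI : Module Γ(S, V) Γ(F, O₁) := Module.compHom _ (algebraMap Γ(S, V) Γ(X, O₁))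
    haveI : IsScalarTower Γ(S, V) Γ(X, O₁) Γ(F, O₁) := .of_algebraMap_smul fun _ _ => rfl
    letI : Module Γ(S', W) Γ(Gp, O') := Module.compHom _ (algebraMap Γ(S', W) Γ(X', O'))
    haveI : IsScalarTower Γ(S', W) Γ(X', O') Γ(Gp, O') := .of_algebraMap_smul fun _ _ => rfl
    letI : Module Γ(S', W) Γ(Fp, O') := Module.compHom _ (algebraMap Γ(S', W) Γ(X', O'))
    haveI : IsScalarTower Γ(S', W) Γ(X', O') Γ(Fp, O') := .of_algebraMap_smul fun _ _ => rfl
    letI : Module Γ(X, O₁) Γ(Fp, O') := Module.compHom _ (algebraMap Γ(X, O₁) Γ(X', O'))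
    haveI : IsScalarTower Γ(X, O₁) Γ(X', O') Γ(Fp, O') := .of_algebraMap_smul fun _ _ => rfl
    letI : Module Γ(S, V) Γ(Fp, O') := Module.compHom _ (algebraMap Γ(S, V) Γ(X', O'))
    haveI : IsScalarTower Γ(S, V) Γ(S', W) Γ(Fp, O') := .of_algebraMap_smul fun a x =>
      congrArg (fun c : Γ(X', O') => c • x) (IsScalarTower.algebraMap_apply Γ(S, V) Γ(S', W) Γ(X', O') a).symm
    haveI : IsScalarTower Γ(S, V) Γ(X, O₁) Γ(Fp, O') := .of_algebraMap_smul fun a x =>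
      congrArg (fun c : Γ(X', O') => c • x) (IsScalarTower.algebraMap_apply Γ(S, V) Γ(X, O₁) Γ(X', O') a).symm
    let lF : Γ(F, O₁) →ₗ[Γ(X, O₁)] Γ(Fp, O') :=
      { toFun := pullSec g' F e₁
        map_add' := pullSec_add g' F e₁
        map_smul' := pullSec_smul g' F e₁ }
    let lG : Γ(G, W) →ₗ[Γ(S', W)] Γ(Gp, O') :=
      { toFun := pullSec f' G e₂
        map_add' := pullSec_add f' G e₂
        map_smul' := pullSec_smul f' G e₂ }
    have hlF : IsBaseChange Γ(X', O') lF :=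
      isBaseChange_pullback hO₁ g' hO' hF e₁ (fun _ => rfl) lF fun _ => rfl
    have hlG : IsBaseChange Γ(X', O') lG :=
      isBaseChange_pullback hW f' hO' hG e₂ (fun _ => rfl) lG fun _ => rfl
    let tw : Γ(G, W) ⊗[Γ(S, V)] Γ(F, O₁) →+ Γ(N, O') :=
      TensorProduct.liftAddHom
        (AddMonoidHom.mk' (fun m => AddMonoidHom.mk' (fun s => tmS Gp Fp (lG m) (lF s))
          fun s s' => by rw [map_add, tmS_add_right]) fun m m' => by
            ext s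
            show tmS Gp Fp (lG (m + m')) (lF s) = _
            rw [map_add, tmS_add_left]
            rfl)
        fun a m s => by
          show tmS Gp Fp (lG (a • m)) (lF s) = tmS Gp Fp (lG m) (lF (a • s))
          rw [← algebraMap_smul Γ(S', W) a m, ← algebraMap_smul Γ(X, O₁) a s, map_smul, map_smul,
            ← algebraMap_smul Γ(X', O') (algebraMap Γ(S, V) Γ(S', W) a) (lG m),
            ← algebraMap_smul Γ(X', O') (algebraMap Γ(S, V) Γ(X, O₁) a) (lF s),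
            ← IsScalarTower.algebraMap_apply, ← IsScalarTower.algebraMap_apply, tmS_smul_left, tmS_smul_right]
    have htw : Function.Bijective tw :=
      bijective_twist lF hlF lG hlG (tmLin Gp Fp O').toAddMonoidHom
        (bijective_tmLin (isQCoh_pullback f' hG) (isQCoh_pullback g' hF) hO') tw fun _ _ => rfl
    letI instF₀ : Module Γ(S, V) Γ(F₀, O.1) := secModule ρ F₀ O.1
    have hsm : ∀ (a : Γ(S, V)) (s : Γ(F₀, O.1)),
        (show Γ(F, O₁) from a • s) = algebraMap Γ(S, V) Γ(X, O₁) a • (show Γ(F, O₁) from s) := fun a s => by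
      refine congrArg (fun c : Γ(X, O₁) => c • (show Γ(F, O₁) from s)) ?_
      show (U.ι.appIso O.1).inv (U.toScheme.presheaf.map (homOfLE (le_top : O.1 ≤ ⊤)).op (ρ a)) =
        f.appLE V O₁ hOV a
      rw [show ρ a = U.topIso.inv (f.appLE V U le_rfl a) from toGlobal_secπ f hV le_rfl a, Scheme.Opens.ι_appIso]
      show (X.presheaf.map _) ((X.presheaf.map _) (f.appLE V U le_rfl a)) = _
      rw [← ConcreteCategory.comp_apply, ← ConcreteCategory.comp_apply, ← Functor.map_comp,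
        Scheme.Hom.appLE_map]
      rfl
    let τ := AddEquiv.ofBijective (tauA F₀ NA O.1).toAddMonoidHom (bijective_tauA F₀ hF₀ NA O.2)
    let σ₀ : Γ(F₀, O.1) ≃+ Γ(F, O₁) := AddEquiv.refl _
    let σ : Γ(F₀, O.1) ≃ₗ[Γ(S, V)] Γ(F, O₁) := σ₀.toLinearEquiv fun a s =>
      (hsm a s).trans (algebraMap_smul Γ(X, O₁) a (show Γ(F, O₁) from s))
    let e : Γ(F₀, O.1) ⊗[Γ(S, V)] NA ≃+ Γ(T, j ⁻¹ᵁ O.1) :=
      (TensorProduct.comm Γ(S, V) Γ(F₀, O.1) NA).toAddEquiv.trans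
        ((TensorProduct.congr (LinearEquiv.refl Γ(S, V) Γ(G, W)) σ).toAddEquiv.trans (AddEquiv.ofBijective tw htw))
    refine ⟨(τ.symm.trans e).toAddMonoidHom, (τ.symm.trans e).bijective, fun s m => ?_⟩
    have h1 : τ.symm (tmS _ F₀ (uSec NA O.1 m) s) = (s ⊗ₜ[Γ(S, V)] (show NA from m)) := by
      rw [AddEquiv.symm_apply_eq]
      rfl
    show e (τ.symm _) = _
    rw [h1]
    rfl
  choose t ht hts using key
  have nat : ∀ (O O₂ : U.toScheme.affineOpens) (i : O.1 ⟶ O₂.1) (z : Γ(tA F₀ NA, O₂.1)),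
      t O ((tA F₀ NA).presheaf.map i.op z) = T.presheaf.map ((Opens.map j.base).map i).op (t O₂ z) := by
    intro O O₂ i z
    letI := secModule ρ F₀ O₂.1
    obtain ⟨w, rfl⟩ := (bijective_tauA F₀ hF₀ NA O₂.2).2 z
    induction w using TensorProduct.induction_on with
    | zero => simp
    | add x y hx hy => simp only [map_add, hx, hy]
    | tmul s m =>
      refine (congrArg (t O) (map_tauA F₀ NA i s m)).trans ((hts O _ m).trans ?_)
      refine Eq.trans ?_ (congrArg _ (hts O₂ s m)).symm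
      exact congr(($((twistAb f' g' G F hU m).hom.naturality i.op)) s)
  let α : (inducedFunctor (fun O : U.toScheme.affineOpens => O.1)).op ⋙ (Coh.toAb (tA F₀ NA)).obj ⟶
      (inducedFunctor (fun O : U.toScheme.affineOpens => O.1)).op ⋙ P.obj :=
    { app := fun O => AddCommGrpCat.ofHom (t O.unop)
      naturality := fun O₂ O i => AddCommGrpCat.ext fun z => nat O.unop O₂.unop i.unop.hom z }
  let θ : Coh.toAb (tA F₀ NA) ⟶ P := ⟨TopCat.Sheaf.restrictHomEquivHom _ P (isBasis_affine U.toScheme) α⟩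
  have hθ : ∀ O : U.toScheme.affineOpens, θ.hom.app (op O.1) = AddCommGrpCat.ofHom (t O) := fun O =>
    TopCat.Sheaf.extend_hom_app _ P (isBasis_affine U.toScheme) α O
  refine ⟨θ, TopCat.Sheaf.isIso_iff_isIso_basis (isBasis_affine U.toScheme) fun O => ?_, fun m => ?_⟩
  · rw [hθ]
    exact (ConcreteCategory.isIso_iff_bijective _).2 (ht O)
  · refine Sheaf.hom_ext (TopCat.Sheaf.hom_ext _ _ (isBasis_affine U.toScheme) fun O => ?_)
    ext s
    show θ.hom.app (op O.1) ((jB F₀ NA m).hom.app (op O.1) s) = twSec f' g' G F hU m O.1 s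
    rw [hθ, jB_app]
    exact hts O s m

end Groth.Agent.FlatBC6
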